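import Cfsg.Agent.H681.FrobDeg
import Cfsg.Agent.H597.IndexP

/-!
# Degrees over a Frobenius quotient (Isaacs, Character theory, Theorem 12.4, strong form) (helper34)

`π : G →* Q` surjective, `V` an abelian normal subgroup of `Q` with `C_Q(v) ≤ V` for all `1 ≠ v ∈ V`, `N` the preimage
of `V` in `G`. If `ψ ∈ Irr(N)` then `[Q : V] ψ(1)` is a character degree of `G` or `|V|` divides `ψ(1)²`.
-/

set_option autoImplicit false

namespace Cfsg.Agent.H34.Frob

open Cfsg Cfsg.Agent.Characters.Core Cfsg.Agent.H681.DegBasic Cfsg.Agent.H681.FrobDeg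
open scoped ComplexConjugate

theorem gA (M : Type*) [CommGroup M] {a b c d : M} (h : a * c⁻¹ = b * d⁻¹) : (a * b⁻¹) * (c * d⁻¹)⁻¹ = 1 := by
  rw [mul_inv, inv_inv]
  calc a * b⁻¹ * (c⁻¹ * d) = (a * c⁻¹) * (b⁻¹ * d) := mul_mul_mul_comm _ _ _ _
    _ = (b * d⁻¹) * (b⁻¹ * d) := by rw [h]
    _ = 1 := by rw [mul_mul_mul_comm, mul_inv_cancel, inv_mul_cancel, one_mul]

theorem gB (M : Type*) [CommGroup M] {a b : M} (h : a * b⁻¹ = 1) : a = b := mul_inv_eq_one.1 h

theorem gC (M : Type*) [CommGroup M] (a b : M) : (a * b⁻¹)⁻¹ = a⁻¹ * b := by rw [mul_inv, inv_inv]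

theorem gD (M : Type*) [CommGroup M] (a b : M) : (a⁻¹ * b)⁻¹ = a * b⁻¹ := by rw [mul_inv, inv_inv]

theorem gE (M : Type*) [CommGroup M] (a : M) : (1 : M)⁻¹ * a = a := by rw [inv_one, one_mul]

/-- An irreducible character vanishing off a normal subgroup of index `m`: `m` divides the square of the degree. -/
theorem index_dvd_sq {N : Type*} [Group N] [Finite N] (K : Subgroup N) [K.Normal] {ψ : N → ℂ}
    (hψ : IsIrrCharacter N ψ) {d : ℕ} (hd : ψ 1 = d) (h0 : ∀ n, n ∉ K → ψ n = 0) : K.index ∣ d ^ 2 := by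
  classical
  have := Fintype.ofFinite N
  have := Fintype.ofFinite K
  have hcd : charDegree ψ = d := by
    unfold charDegree
    rw [hd]
    simp
  obtain ⟨ν, d', hν, -, hne, -, -⟩ := exists_constituent K hψ hd
  obtain ⟨e, t, -, h1, h2, -⟩ := Cfsg.Agent.H597.IndexP.exists_clifford_numbers K hψ hν hne
  have h3 : classInner (fun n : K => ψ n) (fun n : K => ψ n) = (K.index : ℂ) := by
    have h4 : ∑ k : K, ψ k * conj (ψ k) = ∑ n : N, ψ n * conj (ψ n) := by
      rw [← Finset.sum_filter_add_sum_filter_not Finset.univ (fun n => n ∈ K)]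
      rw [Finset.sum_eq_zero (s := Finset.univ.filter (fun n => ¬ n ∈ K)), add_zero]
      · exact (Finset.sum_subtype (Finset.univ.filter fun n => n ∈ K) (by simp) (fun n => ψ n * conj (ψ n))).symm
      · intro n hn
        rw [h0 n (by simpa using hn), zero_mul]
    have h5 := classInner_irr_self hψ
    unfold classInner at h5 ⊢
    rw [h4]
    have hN : (Nat.card N : ℂ) ≠ 0 := by exact_mod_cast Nat.card_pos.ne'
    have hK : (Nat.card K : ℂ) ≠ 0 := by exact_mod_cast Nat.card_pos.ne'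
    have h6 : ((Nat.card K : ℂ)) * (K.index : ℂ) = (Nat.card N : ℂ) := by
      exact_mod_cast K.card_mul_index
    have h7 : ∑ n : N, ψ n * conj (ψ n) = (Nat.card N : ℂ) := by
      have h8 := congrArg (fun z => (Nat.card N : ℂ) * z) h5
      simp only [mul_one] at h8
      rwa [← mul_assoc, mul_inv_cancel₀ hN, one_mul] at h8
    rw [h7, ← h6, ← mul_assoc, inv_mul_cancel₀ hK, one_mul]
  rw [h3, Nat.cast_inj] at h2
  rw [hcd] at h1
  rw [h1, h2]
  exact ⟨t * charDegree ν ^ 2, by ring⟩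

section

variable {Q : Type*} [Group Q] [Finite Q] (V : Subgroup Q) [hVn : V.Normal]

/-- The action on the linear characters. -/
def act (x : Q) (l : V →* ℂˣ) : V →* ℂˣ := l.comp (MulAut.conjNormal x : MulAut V).toMonoidHom

omit [Finite Q] in
theorem act_apply (x : Q) (l : V →* ℂˣ) (v : V) : act V x l v = l ⟨x * v * x⁻¹, hVn.conj_mem v v.2 x⟩ := rfl

omit [Finite Q] in
theorem act_mul (x y : Q) (l : V →* ℂˣ) : act V (x * y) l = act V y (act V x l) := by
  ext v
  rw [act_apply, act_apply, act_apply]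
  congr 2
  apply Subtype.ext
  simp only [mul_inv_rev]
  group

omit [Finite Q] in
theorem act_hom (x : Q) (l l' : V →* ℂˣ) : act V x (l * l') = act V x l * act V x l' := rfl

omit [Finite Q] in
theorem act_one (x : Q) : act V x 1 = 1 := rfl

omit [Finite Q] in
theorem act_inv (x : Q) (l : V →* ℂˣ) : act V x l⁻¹ = (act V x l)⁻¹ := rfl

/-- **Isaacs, Theorem 12.4** (strong form). -/
theorem index_mul_mem_or {G : Type*} [Group G] [Finite G] (π : G →* Q)
    (hπ : Function.Surjective π) (hab : ∀ a ∈ V, ∀ b ∈ V, a * b = b * a)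
    (hfpf : ∀ g, g ∉ V → ∀ v ∈ V, g * v = v * g → v = 1) (N : Subgroup G) [hNn : N.Normal]
    (hN : N = V.comap π) {ψ : N → ℂ} (hψ : IsIrrCharacter N ψ) {d : ℕ} (hd : ψ 1 = d) :
    V.index * d ∈ charDegrees G ∨ Nat.card V ∣ d ^ 2 := by
  classical
  have hmemN : ∀ g, g ∈ N ↔ π g ∈ V := fun g => by rw [hN]; rfl
  let j : N →* V := (π.comp N.subtype).codRestrict V (fun n => (hmemN n).1 n.2)
  have hj : ∀ n : N, (j n : Q) = π n := fun n => rfl
  have hjs : Function.Surjective j := by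
    rintro ⟨v, hv⟩
    obtain ⟨g, rfl⟩ := hπ v
    exact ⟨⟨g, (hmemN g).2 hv⟩, rfl⟩
  let θ : (V →* ℂˣ) → N → ℂ := fun l n => ψ n * (l (j n) : ℂ)
  have hθirr : ∀ l, IsIrrCharacter N (θ l) := by
    intro l
    obtain ⟨k, ρ, hρ, hρψ⟩ := hψ
    refine ⟨k, Cfsg.Agent.CharDeep.Twist.twist (l.comp j) ρ,
      Cfsg.Agent.CharDeep.Twist.twist_irreducible _ _ hρ, ?_⟩
    funext n
    rw [Cfsg.Agent.CharDeep.Twist.twist_character, hρψ, mul_comm]
    rfl
  have hθ1 : ∀ l, θ l 1 = d := by
    intro l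
    simp [θ, hd]
  let c : G → N → N := fun g n => ⟨g * n * g⁻¹, hNn.conj_mem n n.2 g⟩
  have hjc : ∀ (l : V →* ℂˣ) (g : G) (n : N), l (j (c g n)) = act V (π g) l (j n) := by
    intro l g n
    rw [act_apply]
    congr 1
    apply Subtype.ext
    show π (g * n * g⁻¹) = π g * π n * (π g)⁻¹
    rw [map_mul, map_mul, map_inv]
  by_cases hex : ∃ l : V →* ℂˣ, ∀ g : G, (∀ n : N, θ l (c g n) = θ l n) → g ∈ N
  · left
    obtain ⟨l, hl⟩ := hex
    have h1 := induced_degree N (hθirr l) (hθ1 l) hl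
    have h2 : N.index = V.index := by rw [hN]; exact Subgroup.index_comap_of_surjective V hπ
    rwa [h2] at h1
  right
  push Not at hex
  choose g hg hgN using hex
  -- the stabilizer `U` of `ψ`
  let U : Subgroup (V →* ℂˣ) :=
    { carrier := {u | ∀ n : N, ψ n * (u (j n) : ℂ) = ψ n}
      one_mem' := fun n => by simp
      mul_mem' := by
        intro a b ha hb n
        rw [MonoidHom.mul_apply, Units.val_mul, ← mul_assoc, ha n, hb n]
      inv_mem' := by
        intro a ha n
        have h1 := ha n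
        rw [MonoidHom.inv_apply]
        conv_lhs => rw [← h1]
        rw [mul_assoc, ← Units.val_mul, mul_inv_cancel, Units.val_one, mul_one] }
  have hU : ∀ u, u ∈ U ↔ ∀ n : N, ψ n * (u (j n) : ℂ) = ψ n := fun u => Iff.rfl
  -- the subgroup `H`
  let H : Subgroup G :=
    { carrier := {x | ∃ l : V →* ℂˣ, ∀ n : N, ψ (c x n) = ψ n * (l (j n) : ℂ)}
      one_mem' := ⟨1, fun n => by
        have h1 : c 1 n = n := Subtype.ext (by simp [c])
        rw [h1]
        simp⟩
      mul_mem' := by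
        rintro x y ⟨l, hl⟩ ⟨l', hl'⟩
        refine ⟨l' * act V (π y) l, fun n => ?_⟩
        have h1 : c (x * y) n = c x (c y n) := Subtype.ext (by simp [c, mul_assoc])
        rw [h1, hl, hl', hjc, MonoidHom.mul_apply, Units.val_mul, mul_assoc]
      inv_mem' := by
        rintro x ⟨l, hl⟩
        refine ⟨(act V (π x⁻¹) l)⁻¹, fun n => ?_⟩
        have h1 : c x (c x⁻¹ n) = n := Subtype.ext (by simp [c, mul_assoc])
        have h2 := hl (c x⁻¹ n)
        rw [h1, hjc] at h2
        rw [MonoidHom.inv_apply, h2, mul_assoc, ← Units.val_mul, mul_inv_cancel, Units.val_one, mul_one] }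
  have hH : ∀ x, x ∈ H ↔ ∃ l : V →* ℂˣ, ∀ n : N, ψ (c x n) = ψ n * (l (j n) : ℂ) := fun x => Iff.rfl
  have hgH : ∀ l, g l ∈ H := by
    intro l
    refine (hH _).2 ⟨l * (act V (π (g l)) l)⁻¹, fun n => ?_⟩
    have h1 : ψ (c (g l) n) * (l (j (c (g l) n)) : ℂ) = ψ n * (l (j n) : ℂ) := hg l n
    rw [hjc] at h1
    have h2 := Units.ne_zero (act V (π (g l)) l (j n))
    rw [MonoidHom.mul_apply, MonoidHom.inv_apply, Units.val_mul, Units.val_inv_eq_inv_val, ← mul_assoc, ← h1]
    field_simp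
  -- `U` is invariant under `H`
  have hUH : ∀ x ∈ H, ∀ u ∈ U, act V (π x) u ∈ U := by
    intro x hx u hu
    obtain ⟨l, hl⟩ := hx
    rw [hU] at hu ⊢
    intro n
    have h1 := hu (c x n)
    rw [hjc, hl] at h1
    have h2 := Units.ne_zero (l (j n))
    have h3 : (ψ n * ((act V (π x) u (j n) : ℂˣ) : ℂ)) * (l (j n) : ℂ) = ψ n * (l (j n) : ℂ) := by
      rw [← h1]; ring
    exact mul_right_cancel₀ h2 h3
  have hUH' : ∀ x ∈ H, ∀ u, act V (π x) u ∈ U → u ∈ U := by
    intro x hx u hu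
    have h1 := hUH x⁻¹ (H.inv_mem hx) _ hu
    rw [← act_mul, ← map_mul, mul_inv_cancel, map_one] at h1
    have h2 : act V 1 u = u := by
      ext v
      rw [act_apply]
      simp
    rwa [h2] at h1
  -- the key lemma
  have hfinL : Finite (V →* ℂˣ) := by
    apply Nat.finite_of_card_ne_zero
    rw [Cfsg.Agent.Characters.Linear.card_hom_eq_index_commutator]
    exact Subgroup.index_ne_zero_of_finite
  have hkey : ∀ x ∈ H, π x ∉ V → ∀ μ : V →* ℂˣ, μ * (act V (π x) μ)⁻¹ ∈ U → μ ∈ U := by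
    intro x hx hxV μ hμ
    have hinj : Function.Injective fun l : V →* ℂˣ => l * (act V (π x) l)⁻¹ := by
      intro l l' hll
      have h1 : (l * l'⁻¹) * (act V (π x) (l * l'⁻¹))⁻¹ = 1 := gA (V →* ℂˣ) hll
      have h3 : l * l'⁻¹ = 1 := by
        refine eq_one_of_invariant V hab hfpf hxV _ fun v => ?_
        have h4 := gB (V →* ℂˣ) h1
        exact (DFunLike.congr_fun h4 v).symm
      exact gB (V →* ℂˣ) h3
    have hmaps : ∀ u : U, (u : V →* ℂˣ) * (act V (π x) u)⁻¹ ∈ U := fun u =>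
      U.mul_mem u.2 (U.inv_mem (hUH x hx _ u.2))
    have hinj' : Function.Injective fun u : U => (⟨(u : V →* ℂˣ) * (act V (π x) u)⁻¹, hmaps u⟩ : U) := by
      intro a b hab'
      exact Subtype.ext (hinj (congrArg Subtype.val hab'))
    obtain ⟨u, hu⟩ := Finite.surjective_of_injective hinj' ⟨_, hμ⟩
    have h1 : (u : V →* ℂˣ) = μ := hinj (congrArg Subtype.val hu)
    rw [← h1]
    exact u.2
  -- `U` is everything
  have htop : ∀ μ : V →* ℂˣ, μ ∈ U := by
    by_contra hcon
    push Not at hcon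
    obtain ⟨μ, hμ⟩ := hcon
    let Y := {y : G ⧸ N // ∃ x ∈ H, (x : G ⧸ N) = y}
    have hfY : Finite Y := inferInstance
    have hfX : Finite ((V →* ℂˣ) ⧸ U) := inferInstance
    -- the first map
    let α : (V →* ℂˣ) ⧸ U → Y := fun q => ⟨(g q.out : G ⧸ N), g q.out, hgH _, rfl⟩
    have hα : Function.Injective α := by
      intro a b hab'
      have h1 : ((g a.out : G) : G ⧸ N) = (g b.out : G ⧸ N) := congrArg Subtype.val hab'
      have h2 : (g a.out)⁻¹ * g b.out ∈ N := QuotientGroup.eq.1 h1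
      obtain ⟨x, hx⟩ : ∃ x : N, g b.out = g a.out * x := ⟨⟨_, h2⟩, by simp⟩
      have hcl := isIrr_isClassFunction (hθirr b.out)
      have hg' : ∀ n : N, θ b.out (c (g a.out) n) = θ b.out n := by
        intro n
        have h1 := hg b.out (x⁻¹ * n * x)
        have h2 : c (g b.out) (x⁻¹ * n * x) = c (g a.out) n := by
          apply Subtype.ext
          simp only [c, Subgroup.coe_mul, Subgroup.coe_inv]
          rw [hx]
          group
        rw [h2] at h1
        rw [h1]
        have h3 := hcl n x⁻¹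
        rwa [inv_inv] at h3
      have h3 : (a.out * b.out⁻¹) * (act V (π (g a.out)) (a.out * b.out⁻¹))⁻¹ ∈ U := by
        rw [hU]
        intro n
        have h1 : ψ (c (g a.out) n) * (a.out (j (c (g a.out) n)) : ℂ) = ψ n * (a.out (j n) : ℂ) := hg a.out n
        have h2 : ψ (c (g a.out) n) * (b.out (j (c (g a.out) n)) : ℂ) = ψ n * (b.out (j n) : ℂ) := hg' n
        rw [hjc] at h1 h2
        have ha := Units.ne_zero (act V (π (g a.out)) a.out (j n))
        have hb := Units.ne_zero (act V (π (g a.out)) b.out (j n))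
        have hc := Units.ne_zero (a.out (j n))
        have hd' := Units.ne_zero (b.out (j n))
        have h3 : ψ n * ((a.out (j n) : ℂ) * (act V (π (g a.out)) b.out (j n) : ℂ)) =
            ψ n * ((b.out (j n) : ℂ) * (act V (π (g a.out)) a.out (j n) : ℂ)) := by
          linear_combination (-(act V (π (g a.out)) b.out (j n) : ℂ)) * h1 +
            (act V (π (g a.out)) a.out (j n) : ℂ) * h2
        rw [act_hom, act_inv]
        simp only [MonoidHom.mul_apply, MonoidHom.inv_apply, Units.val_mul, Units.val_inv_eq_inv_val, mul_inv,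
          inv_inv]
        have h4 : ψ n * ((a.out (j n) : ℂ) * ((b.out (j n) : ℂ))⁻¹ *
            (((act V (π (g a.out)) a.out (j n) : ℂ))⁻¹ * (act V (π (g a.out)) b.out (j n) : ℂ))) =
            (ψ n * ((a.out (j n) : ℂ) * (act V (π (g a.out)) b.out (j n) : ℂ))) *
              ((b.out (j n) : ℂ) * (act V (π (g a.out)) a.out (j n) : ℂ))⁻¹ := by
          field_simp
        rw [h4, h3]
        field_simp
      have h4 := hkey _ (hgH _) (fun h => hgN a.out ((hmemN _).2 h)) _ h3
      rw [← QuotientGroup.out_eq' a, ← QuotientGroup.out_eq' b]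
      refine QuotientGroup.eq.2 ?_
      have h5 := U.inv_mem h4
      rwa [gC (V →* ℂˣ)] at h5
    let one : Y := ⟨((1 : G) : G ⧸ N), 1, H.one_mem, rfl⟩
    have hα1 : one ∉ Set.range α := by
      rintro ⟨q, hq⟩
      have h1 : ((g q.out : G) : G ⧸ N) = ((1 : G) : G ⧸ N) := congrArg Subtype.val hq
      have h2 : (1 : G)⁻¹ * g q.out ∈ N := QuotientGroup.eq.1 h1.symm
      rw [inv_one, one_mul] at h2
      exact hgN _ h2
    -- the second map
    choose r hrH hr using fun y : Y => y.2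
    let β : Y → (V →* ℂˣ) ⧸ U := fun y => ((act V (π (r y)) μ : V →* ℂˣ) : (V →* ℂˣ) ⧸ U)
    have hβ : Function.Injective β := by
      intro y y' hyy
      have h1 : (act V (π (r y)) μ)⁻¹ * act V (π (r y')) μ ∈ U := QuotientGroup.eq.1 hyy
      have h2 : act V (π (r y')) μ = act V (π (r y)) (act V (π (r y' * (r y)⁻¹)) μ) := by
        rw [← act_mul, ← map_mul, inv_mul_cancel_right]
      rw [h2, ← act_inv, ← act_hom] at h1
      have h3 := hUH' _ (hrH y) _ h1
      have h4 := U.inv_mem h3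
      rw [gD (V →* ℂˣ)] at h4
      by_contra hne
      apply hμ
      refine hkey _ (H.mul_mem (hrH y') (H.inv_mem (hrH y))) ?_ μ h4
      intro h5
      apply hne
      apply Subtype.ext
      rw [← hr y, ← hr y']
      refine QuotientGroup.eq.2 ?_
      have h6 : r y' * (r y)⁻¹ ∈ N := (hmemN _).2 h5
      have h7 := hNn.conj_mem _ h6 (r y)⁻¹
      rw [inv_inv] at h7
      have h8 : (r y)⁻¹ * (r y' * (r y)⁻¹) * r y = (r y)⁻¹ * r y' := by group
      rwa [h8] at h7
    have hβ1 : ((1 : V →* ℂˣ) : (V →* ℂˣ) ⧸ U) ∉ Set.range β := by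
      rintro ⟨y, hy⟩
      apply hμ
      have h1 : (1 : V →* ℂˣ)⁻¹ * act V (π (r y)) μ ∈ U := QuotientGroup.eq.1 hy.symm
      rw [gE (V →* ℂˣ)] at h1
      exact hUH' _ (hrH y) _ h1
    have := Fintype.ofFinite Y
    have := Fintype.ofFinite ((V →* ℂˣ) ⧸ U)
    have h1 := Fintype.card_lt_of_injective_of_notMem α hα hα1
    have h2 := Fintype.card_lt_of_injective_of_notMem β hβ hβ1
    omega
  -- `ψ` vanishes off the kernel of `j`
  have hvan : ∀ n, n ∉ j.ker → ψ n = 0 := by
    intro n hn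
    let _ : CommGroup V := { (inferInstance : Group V) with mul_comm := fun a b => Subtype.ext (hab a a.2 b b.2) }
    have hne : j n ≠ 1 := fun h => hn (MonoidHom.mem_ker.2 h)
    obtain ⟨l, hl⟩ := CommGroup.exists_apply_ne_one_of_hasEnoughRootsOfUnity V ℂ hne
    have h1 := (hU l).1 (htop l) n
    by_contra h0
    have h2 : (l (j n) : ℂ) = 1 := by
      have h3 : ψ n * (l (j n) : ℂ) = ψ n * 1 := by rw [mul_one]; exact h1
      exact mul_left_cancel₀ h0 h3
    exact hl (Units.ext h2)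
  have h1 := index_dvd_sq j.ker hψ hd hvan
  have h2 : j.ker.index = Nat.card V := by
    rw [Subgroup.index_ker, MonoidHom.range_eq_top.2 hjs, Subgroup.card_top]
  rwa [h2] at h1

end

end Cfsg.Agent.H34.Frob
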