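import Mathlib
import Cfsg.Agent.H34.FrobStrong
import Cfsg.Agent.H681.DegStruct
import Cfsg.Agent.H691.T3.Defs

/-!
# Groups with the character degrees of `SL₃(q)`: the derived subgroup is perfect (S4855, helper34)

`cases_of_not_perfect` : the dichotomy of H279.PerfDer with the strong form of Isaacs 12.4.
`perfect_derived3` : task 2533.
-/

set_option autoImplicit false

namespace Cfsg.Agent.H34.Perf3

open Cfsg Cfsg.Agent.Characters.Core Cfsg.Agent.H681 Cfsg.Agent.H681.DegBasic Cfsg.Agent.H691 Cfsg.Agent.H691.T3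
open Cfsg.Agent.H34

/-- The dichotomy, relative to a surjection on a minimal nonabelian solvable group. -/
theorem cases_of_surj {G Q : Type*} [Group G] [Finite G] [Group Q] [Finite Q] [Group.IsSolvable Q]
    (π : G →* Q) (hπ : Function.Surjective π) (h1 : commutator Q ≠ ⊥)
    (hmin : ∀ M : Subgroup Q, M.Normal → M ≠ ⊥ → commutator Q ≤ M) :
    ∃ (p : ℕ) (f : ℕ), p.Prime ∧ 1 < f ∧
      (((∃ b, f = p ^ b) ∧ ∀ n ∈ charDegrees G, p ∣ n ∨ f * n ∈ charDegrees G) ∨
        (f.Coprime p ∧ ∃ N : Subgroup G, ∃ _ : N.Normal, N.index = f ∧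
          ∃ m : ℕ, 0 < m ∧ f < p ^ m ∧
            ∀ (ψ : N → ℂ), IsIrrCharacter N ψ → ∀ d : ℕ, ψ 1 = d → p ^ m ∣ d ^ 2 ∨ f * d ∈ charDegrees G)) := by
  classical
  have := Fintype.ofFinite G
  have hab := MinNonab.comm_of_mem h1 hmin
  obtain ⟨p, hp, hexp⟩ := MinNonab.exists_prime h1 hab hmin
  have hpf := Fact.mk hp
  by_cases hZ : Subgroup.center Q = ⊥
  · -- Frobenius case
    have hfpf := MinNonab.fixedPointFree hab hmin h1 hZ
    have hidx : 1 < (commutator Q).index := by
      have h0 : (commutator Q).index ≠ 0 := Subgroup.index_ne_zero_of_finite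
      have h2 : (commutator Q).index ≠ 1 := by
        intro h
        rw [Subgroup.index_eq_one] at h
        apply h1
        rw [eq_bot_iff, ← hZ]
        intro v hv
        rw [Subgroup.mem_center_iff]
        intro g
        exact hab g (h ▸ Subgroup.mem_top g) v hv
      omega
    -- `f` is coprime to `p`
    have hcop : (commutator Q).index.Coprime p := by
      rw [Nat.coprime_comm, hp.coprime_iff_not_dvd]
      intro hdvd
      -- a `p`-element outside `V` acts with fixed points on `V`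
      have hVp : IsPGroup p (commutator Q) := by
        intro v
        exact ⟨1, Subtype.ext (by simpa using hexp v v.2)⟩
      obtain ⟨P, hP⟩ := hVp.exists_le_sylow
      -- `P ≠ V`
      have hne : ∃ x ∈ (P : Subgroup Q), x ∉ commutator Q := by
        by_contra hcon
        push Not at hcon
        have heq : (P : Subgroup Q) = commutator Q := le_antisymm hcon hP
        apply P.not_dvd_index
        rw [heq]
        exact hdvd
      obtain ⟨x, hxP, hxV⟩ := hne
      -- `Z(P) ∩ V ≠ 1`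
      have hPp : IsPGroup p (P : Subgroup Q) := P.isPGroup'
      let V' : Subgroup (P : Subgroup Q) := (commutator Q).subgroupOf P
      have hV'n : V'.Normal := inferInstance
      have hV'1 : V' ≠ ⊥ := by
        intro h
        apply h1
        rw [eq_bot_iff]
        intro v hv
        have : (⟨v, hP hv⟩ : (P : Subgroup Q)) ∈ V' := Subgroup.mem_subgroupOf.2 hv
        rw [h, Subgroup.mem_bot] at this
        exact Subgroup.mem_bot.2 (congrArg Subtype.val this)
      obtain ⟨z, hz1, hz2, hz⟩ :=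
        Cfsg.Agent.Transfer.PGroupNormal.exists_mem_inf_center_orderOf hPp V' hV'1
      have hz3 : (z : Q) ∈ commutator Q := Subgroup.mem_subgroupOf.1 hz1
      have hz4 := Subgroup.mem_center_iff.1 hz2 ⟨x, hxP⟩
      have hz5 : x * (z : Q) = z * x := congrArg Subtype.val hz4
      have hz6 := hfpf x hxV z hz3 hz5
      have hz7 : z = 1 := Subtype.ext hz6
      rw [hz7, orderOf_one] at hz
      exact hp.one_lt.ne hz
    have hVp : IsPGroup p (commutator Q) := by
      intro v
      exact ⟨1, Subtype.ext (by simpa using hexp v v.2)⟩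
    obtain ⟨m, hm⟩ := IsPGroup.iff_card.1 hVp
    have hlt := FrobDeg.index_lt (commutator Q) hfpf h1
    rw [hm] at hlt
    have hm0 : 0 < m := by
      rcases Nat.eq_zero_or_pos m with h0 | h0
      · rw [h0, pow_zero] at hlt
        omega
      · exact h0
    refine ⟨p, (commutator Q).index, hp, hidx, Or.inr ⟨hcop, (commutator Q).comap π,
      (inferInstance : (commutator Q).Normal).comap _, ?_, m, hm0, hlt, ?_⟩⟩
    · exact Subgroup.index_comap_of_surjective _ hπ
    · intro ψ hψ d hψd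
      have hNn : ((commutator Q).comap π).Normal := (inferInstance : (commutator Q).Normal).comap _
      have h2 := Frob.index_mul_mem_or (commutator Q) π hπ hab hfpf ((commutator Q).comap π) rfl hψ hψd
      rw [hm] at h2
      exact h2.symm
  · -- the `p`-group case
    have hPG : IsPGroup p Q := MinNonab.isPGroup_of_center h1 hp hexp hmin hZ
    obtain ⟨a, ha⟩ := IsPGroup.iff_card.1 hPG
    -- a nonlinear irreducible character of the quotient
    obtain ⟨f, hf, hf1⟩ : ∃ f ∈ charDegrees Q, f ≠ 1 := by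
      by_contra hcon
      push Not at hcon
      apply h1
      have hall : ∀ χ : IrrCharacter Q, (χ : Q → ℂ) 1 = 1 := by
        intro χ
        obtain ⟨m, hm, hm'⟩ := isIrr_apply_one χ.2
        have := hcon m (mem_charDegrees.2 ⟨χ, χ.2, hm'⟩)
        rw [hm', this, Nat.cast_one]
      have hc := S0187.result.2 hall
      rw [commutator_eq_bot_iff_center_eq_top, Subgroup.eq_top_iff']
      intro x
      rw [Subgroup.mem_center_iff]
      intro y
      exact hc y x
    have hfp : ∃ b, f = p ^ b := by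
      have h2 := dvd_card hf
      rw [ha] at h2
      obtain ⟨b, -, hb⟩ := (Nat.dvd_prime_pow hp).1 h2
      exact ⟨b, hb⟩
    have hfpos := pos_of_mem hf
    refine ⟨p, f, hp, by omega, Or.inl ⟨hfp, ?_⟩⟩
    intro n hn
    by_cases hpn : p ∣ n
    · exact Or.inl hpn
    · right
      obtain ⟨χ, hχ, hχn⟩ := mem_charDegrees.1 hn
      have := Fintype.ofFinite π.ker
      obtain ⟨ψ, d, hψ, hψd, hne, hd1, hd2⟩ := exists_constituent π.ker hχ hχn
      have hidx : π.ker.index = p ^ a := by
        rw [← ha]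
        have := Nat.card_congr (QuotientGroup.quotientKerEquivOfSurjective π hπ).toEquiv
        exact this
      rw [hidx] at hd2
      have hnd : n / d = 1 := by
        have h2 : n / d ∣ n := Nat.div_dvd_of_dvd hd1
        have h3 : (n / d).Coprime (p ^ a) := by
          refine Nat.Coprime.pow_right a ?_
          rw [Nat.coprime_comm, hp.coprime_iff_not_dvd]
          exact fun h => hpn (h.trans h2)
        exact Nat.eq_one_of_dvd_coprimes h3 dvd_rfl hd2
      have hdn : d = n := by
        have := Nat.div_mul_cancel hd1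
        rw [hnd, one_mul] at this
        exact this
      have hres := restrict_eq_of_degree π.ker (isIrr_isCharacter hχ) hψ hne (by
        rw [hχn, hψd, hdn])
      exact gallagher π hπ π.ker (fun k hk => hk) hχ (by rw [hres]; exact hψ) hχn hf

/-- The dichotomy for a finite group whose derived subgroup is not perfect. -/
theorem cases_of_not_perfect {G : Type*} [Group G] [Finite G]
    (hG : ⁅commutator G, commutator G⁆ ≠ commutator G) :
    ∃ (p : ℕ) (f : ℕ), p.Prime ∧ 1 < f ∧
      (((∃ b, f = p ^ b) ∧ ∀ n ∈ charDegrees G, p ∣ n ∨ f * n ∈ charDegrees G) ∨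
        (f.Coprime p ∧ ∃ N : Subgroup G, ∃ _ : N.Normal, N.index = f ∧
          ∃ m : ℕ, 0 < m ∧ f < p ^ m ∧
            ∀ (ψ : N → ℂ), IsIrrCharacter N ψ → ∀ d : ℕ, ψ 1 = d → p ^ m ∣ d ^ 2 ∨ f * d ∈ charDegrees G)) := by
  classical
  set D : Subgroup G := ⁅commutator G, commutator G⁆ with hD
  have hDn : D.Normal := inferInstance
  have hπ := QuotientGroup.mk'_surjective D
  have hmap : commutator (G ⧸ D) = (commutator G).map (QuotientGroup.mk' D) := by
    rw [commutator_def, commutator_def, Subgroup.map_commutator,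
      Subgroup.map_top_of_surjective _ hπ]
  have hne : commutator (G ⧸ D) ≠ ⊥ := by
    intro h
    rw [hmap, Subgroup.map_eq_bot_iff, QuotientGroup.ker_mk'] at h
    exact hG (le_antisymm (Subgroup.commutator_le_left _ _) h)
  have hsol : Group.IsSolvable (G ⧸ D) := by
    refine ⟨2, ?_⟩
    have h1 : derivedSeries (G ⧸ D) 1 = commutator (G ⧸ D) := derivedSeries_one _
    rw [derivedSeries_succ, h1, hmap, ← Subgroup.map_commutator, Subgroup.map_eq_bot_iff,
      QuotientGroup.ker_mk']
  obtain ⟨K, hKn, h1, hmin⟩ := MinNonab.exists_quotient hne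
  have hsolK : Group.IsSolvable ((G ⧸ D) ⧸ K) :=
    Group.isSolvable_of_surjective (QuotientGroup.mk'_surjective K)
  exact cases_of_surj ((QuotientGroup.mk' K).comp (QuotientGroup.mk' D))
    ((QuotientGroup.mk'_surjective K).comp hπ) h1 hmin


/-! ### Arithmetic of `DT q` -/

theorem mem_DT {q d : ℕ} : d ∈ DT q ↔ (d = 1 ∨ d = q ^ 2 + q ∨ d = q ^ 3 ∨ d + 1 = q ^ 3 ∨ d = (q - 1) ^ 2 * (q + 1) ∨
    (3 ≤ q ∧ (d = q ^ 2 + q + 1 ∨ d = q * (q ^ 2 + q + 1))) ∨ (5 ≤ q ∧ d = (q + 1) * (q ^ 2 + q + 1)) ∨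
    (3 ∣ q - 1 ∧ (3 * d = (q + 1) * (q ^ 2 + q + 1) ∨ 3 * d = (q - 1) ^ 2 * (q + 1)))) := Iff.rfl

theorem mul_cube_not_mem {q m : ℕ} (hq : 2 ≤ q) (hm : 2 ≤ m) : m * q ^ 3 ∉ DT q := by
  intro h
  have h0 : 2 * q ^ 3 ≤ m * q ^ 3 := Nat.mul_le_mul_right _ hm
  generalize m * q ^ 3 = d at h h0
  obtain ⟨k, rfl⟩ : ∃ k, q = k + 2 := ⟨q - 2, by omega⟩
  have e1 : k + 2 - 1 = k + 1 := by omega
  rw [mem_DT, e1] at h
  have hpos := pow_pos (show 0 < k + 2 by omega) 3
  rcases h with h | h | h | h | h | ⟨-, h | h⟩ | ⟨h5, h⟩ | ⟨-, h | h⟩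
  · omega
  · nlinarith
  · nlinarith
  · nlinarith
  · nlinarith
  · nlinarith
  · nlinarith
  · obtain ⟨l, rfl⟩ : ∃ l, k = l + 3 := ⟨k - 3, by omega⟩
    nlinarith
  · nlinarith
  · nlinarith

theorem not_dvd_one {p : ℕ} (hp : p.Prime) : ¬ p ∣ 1 := fun h => hp.one_lt.ne' (Nat.dvd_one.1 h)

theorem cop_of {p x : ℕ} (hp : p.Prime) (h : p ∣ x → p ∣ 1) : x.Coprime p :=
  Nat.Coprime.symm ((Nat.Prime.coprime_iff_not_dvd hp).2 fun h1 => not_dvd_one hp (h h1))

theorem cop_succ {p q : ℕ} (hp : p.Prime) (hpq : p ∣ q) : (q + 1).Coprime p :=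
  cop_of hp fun h => (Nat.dvd_add_right hpq).1 h

theorem cop_n {p q : ℕ} (hp : p.Prime) (hpq : p ∣ q) : (q ^ 2 + q + 1).Coprime p :=
  cop_of hp fun h => (Nat.dvd_add_right (Dvd.dvd.add (hpq.trans (dvd_pow_self q two_ne_zero)) hpq)).1 h

/-- A power of `p` in `DT q` is `1` or `q ^ 3`. -/
theorem eq_cube_of_pow {p q b : ℕ} (hp : p.Prime) (hpq : p ∣ q) (hq : 2 ≤ q) (h : p ^ b ∈ DT q) (h1 : 1 < p ^ b) :
    p ^ b = q ^ 3 := by
  have hb : b ≠ 0 := by
    rintro rfl
    simp at h1
  have hpf : p ∣ p ^ b := dvd_pow_self p hb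
  have key : ∀ x, x.Coprime p → x ∣ p ^ b → x = 1 := fun x hx hxd =>
    Nat.Coprime.eq_one_of_dvd (Nat.Coprime.pow_right b hx) hxd
  have c1 := cop_succ hp hpq
  have c2 := cop_n hp hpq
  have key3 : ∀ x, x.Coprime p → x ∣ 3 * p ^ b → x ∣ 3 := fun x hx hxd =>
    (Nat.Coprime.pow_right b hx).dvd_of_dvd_mul_right hxd
  rw [mem_DT] at h
  generalize p ^ b = f at *
  rcases h with h | h | h | h | h | ⟨-, h | h⟩ | ⟨-, h⟩ | ⟨h3, h | h⟩
  · omega
  · have := key _ c1 ⟨q, by rw [h]; ring⟩
    omega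
  · exact h
  · exfalso
    have h5 : p ∣ q ^ 3 := hpq.trans (dvd_pow_self q (by norm_num))
    rw [← h] at h5
    exact not_dvd_one hp ((Nat.dvd_add_right hpf).1 h5)
  · have := key _ c1 ⟨(q - 1) ^ 2, by rw [h]; ring⟩
    omega
  · have := key _ c2 ⟨1, by rw [h]; ring⟩
    nlinarith
  · have := key _ c2 ⟨q, by rw [h]; ring⟩
    nlinarith
  · have := key _ c1 ⟨q ^ 2 + q + 1, by rw [h]⟩
    omega
  · exfalso
    have h5 := Nat.le_of_dvd (by norm_num) (key3 _ c1 ⟨_, h⟩)
    have h6 : q = 2 := by omega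
    subst h6
    norm_num at h3
  · exfalso
    have h5 := Nat.le_of_dvd (by norm_num) (key3 _ c1 ⟨(q - 1) ^ 2, by rw [h]; ring⟩)
    have h6 : q = 2 := by omega
    subst h6
    norm_num at h3

/-- The multiples of `q (q + 1)` in `DT q`. -/
theorem eq_one_of_mul_mem {q m : ℕ} (hq : 2 ≤ q) (h : m * (q * (q + 1)) ∈ DT q) : m = 1 := by
  have hm0 : m ≠ 0 := by
    rintro rfl
    rw [zero_mul, mem_DT] at h
    have hpos : 0 < q ^ 3 := pow_pos (by omega) 3
    have h1 : 0 < (q - 1) ^ 2 * (q + 1) := Nat.mul_pos (pow_pos (by omega) 2) (by omega)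
    have h2 : 0 < (q + 1) * (q ^ 2 + q + 1) := Nat.mul_pos (by omega) (by omega)
    have h3 : 0 < q * (q ^ 2 + q + 1) := Nat.mul_pos (by omega) (by omega)
    have h4 : q ^ 3 ≠ 1 := by
      have : 2 ^ 3 ≤ q ^ 3 := Nat.pow_le_pow_left hq 3
      omega
    rcases h with h | h | h | h | h | ⟨-, h | h⟩ | ⟨-, h⟩ | ⟨-, h | h⟩ <;> omega
  have hn1 : ¬ q ∣ 1 := fun h => by have := Nat.le_of_dvd one_pos h; omega
  have hn2 : ¬ (q + 1) ∣ 1 := fun h => by have := Nat.le_of_dvd one_pos h; omega
  have hqX : q ∣ m * (q * (q + 1)) := ⟨m * (q + 1), by ring⟩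
  have hrX : (q + 1) ∣ m * (q * (q + 1)) := ⟨m * q, by ring⟩
  have hcop : (q + 1).Coprime q := by simp
  have hnq : ¬ q ∣ q ^ 2 + q + 1 := fun h => hn1
    ((Nat.dvd_add_right (Dvd.dvd.add (dvd_pow_self q two_ne_zero) dvd_rfl)).1 h)
  have hnr : ¬ (q + 1) ∣ q ^ 2 + q + 1 := fun h => hn2 ((Nat.dvd_add_right (⟨q, by ring⟩ : (q + 1) ∣ q ^ 2 + q)).1 h)
  have hsq : ¬ q ∣ (q - 1) ^ 2 * (q + 1) := by
    intro h
    have h1 : (q - 1).Coprime q := by
      obtain ⟨k, rfl⟩ : ∃ k, q = k + 1 := ⟨q - 1, by omega⟩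
      simp
    have h2 : ((q - 1) ^ 2 * (q + 1)).Coprime q := Nat.Coprime.mul_left (Nat.Coprime.pow_left 2 h1) hcop
    have := Nat.Coprime.eq_one_of_dvd h2.symm h
    omega
  rw [mem_DT] at h
  rcases h with h | h | h | h | h | ⟨-, h | h⟩ | ⟨-, h⟩ | ⟨-, h | h⟩
  · rw [h] at hqX
    exact absurd hqX hn1
  · have h5 : m * (q * (q + 1)) = 1 * (q * (q + 1)) := by rw [h]; ring
    exact Nat.eq_of_mul_eq_mul_right (Nat.mul_pos (by omega) (by omega)) h5
  · rw [h] at hrX
    have := Nat.Coprime.eq_one_of_dvd (Nat.Coprime.pow_right 3 hcop) hrX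
    omega
  · exfalso
    have h5 : q ∣ q ^ 3 := dvd_pow_self q (by norm_num)
    rw [← h] at h5
    exact hn1 ((Nat.dvd_add_right hqX).1 h5)
  · rw [h] at hqX
    exact absurd hqX hsq
  · rw [h] at hqX
    exact absurd hqX hnq
  · rw [h] at hrX
    exact absurd (hcop.dvd_of_dvd_mul_left hrX) hnr
  · rw [h] at hqX
    exact absurd (hcop.symm.dvd_of_dvd_mul_left hqX) hnq
  · have h5 : q ∣ 3 * (m * (q * (q + 1))) := hqX.mul_left 3
    rw [h] at h5
    exact absurd (hcop.symm.dvd_of_dvd_mul_left h5) hnq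
  · have h5 : q ∣ 3 * (m * (q * (q + 1))) := hqX.mul_left 3
    rw [h] at h5
    exact absurd h5 hsq

/-- The members of `DT q` dividing `q + 1`. -/
theorem of_le_succ {q f : ℕ} (hq : 2 ≤ q) (h : f ∈ DT q) (h1 : 1 < f) (hf : f ≤ q + 1) : q = 2 ∧ f = 3 := by
  obtain ⟨k, rfl⟩ : ∃ k, q = k + 2 := ⟨q - 2, by omega⟩
  have e1 : k + 2 - 1 = k + 1 := by omega
  have e2 : (k + 2) ^ 3 = k ^ 3 + 6 * k ^ 2 + 12 * k + 8 := by ring
  have z2 := Nat.zero_le (k ^ 2)
  have z3 := Nat.zero_le (k ^ 3)
  rw [mem_DT, e1] at h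
  rcases h with h | h | h | h | h | ⟨-, h | h⟩ | ⟨-, h⟩ | ⟨h3, h | h⟩
  · omega
  · exfalso; nlinarith
  · exfalso; linarith
  · exfalso; linarith
  · rcases Nat.eq_zero_or_pos k with h0 | h0
    · subst h0
      exact ⟨rfl, by rw [h]; norm_num⟩
    · exfalso; nlinarith
  · exfalso; nlinarith
  · exfalso; nlinarith
  · exfalso; nlinarith
  · exfalso; nlinarith
  · exfalso
    rcases Nat.eq_zero_or_pos k with h0 | h0
    · subst h0
      norm_num at h3
    · nlinarith

/-- The members of `DT q` smaller than `q ^ 2`. -/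
theorem of_lt_sq {q f : ℕ} (hq : 2 ≤ q) (h : f ∈ DT q) (h1 : 1 < f) (hf : f < q ^ 2) :
    (q = 2 ∧ f = 3) ∨ (q = 4 ∧ f = 15) := by
  obtain ⟨k, rfl⟩ : ∃ k, q = k + 2 := ⟨q - 2, by omega⟩
  have e1 : k + 2 - 1 = k + 1 := by omega
  rw [mem_DT, e1] at h
  rcases h with h | h | h | h | h | ⟨-, h | h⟩ | ⟨-, h⟩ | ⟨h3, h | h⟩
  · omega
  · exfalso; nlinarith
  · exfalso; nlinarith
  · exfalso; nlinarith
  · rcases Nat.eq_zero_or_pos k with h0 | h0
    · subst h0
      exact Or.inl ⟨rfl, by rw [h]; norm_num⟩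
    · exfalso
      obtain ⟨l, rfl⟩ : ∃ l, k = l + 1 := ⟨k - 1, by omega⟩
      nlinarith
  · exfalso; nlinarith
  · exfalso; nlinarith
  · exfalso; nlinarith
  · exfalso; nlinarith
  · right
    have hk : k ≤ 2 := by
      by_contra hcon
      obtain ⟨l, rfl⟩ : ∃ l, k = l + 3 := ⟨k - 3, by omega⟩
      nlinarith
    interval_cases k
    · norm_num at h3
    · norm_num at h3
    · exact ⟨rfl, by omega⟩

/-- **Task 2533.** -/
theorem perfect_derived3 {G : Type*} [Group G] [Finite G] {p F : ℕ} (hp : p.Prime) (hF : F ≠ 0)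
    (h : Known (p ^ F) (charDegrees G)) : ⁅commutator G, commutator G⁆ = commutator G := by
  classical
  have := Fintype.ofFinite G
  by_contra hcon
  obtain ⟨r, f, hr, hf, hc⟩ := cases_of_not_perfect hcon
  have hpq : p ∣ p ^ F := dvd_pow_self p hF
  have hqp : ∀ r : ℕ, r.Prime → r ∣ p ^ F → r = p := fun r hr h =>
    (Nat.prime_dvd_prime_iff_eq hr hp).1 (hr.dvd_of_dvd_pow h)
  have hpow : ∀ x, x ∣ (p ^ F) ^ 3 → ∃ b, x = p ^ b := by
    intro x hx
    rw [← pow_mul] at hx
    obtain ⟨b, -, hb⟩ := (Nat.dvd_prime_pow hp).1 hx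
    exact ⟨b, hb⟩
  have hq2 : 2 ≤ p ^ F := hp.two_le.trans (Nat.le_of_dvd (pow_pos hp.pos F) hpq)
  generalize hq : p ^ F = q at *
  have hr2 := hr.two_le
  -- `n ∈ D`
  have hn : q ^ 2 + q + 1 ∈ charDegrees G := by
    rcases Nat.lt_or_ge q 3 with h3 | h3
    · have h4 : q = 2 := by omega
      subst h4
      exact (h.small rfl).2
    · exact h.lin h3
  have hn2 : 2 ≤ q ^ 2 + q + 1 := by omega
  have hMul : ∀ m, 2 ≤ m → m * q ^ 3 ∉ charDegrees G := fun m hm hmem => mul_cube_not_mem hq2 hm (h.sub hmem)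
  rcases hc with ⟨⟨b, hfb⟩, hc⟩ | ⟨hfr, N, hN, hNf, m, hm, hfm, hc⟩
  · -- the quotient is an `r`-group
    have hfD : f ∈ charDegrees G := by
      rcases hc 1 one_mem with h1 | h1
      · exact absurd h1 (not_dvd_one hr)
      · rwa [mul_one] at h1
    by_cases h1 : r ∣ q ^ 3
    · have h2 : r = p := hqp r hr (hr.dvd_of_dvd_pow h1)
      subst h2
      have h3 : f = q ^ 3 := by
        rw [hfb]
        exact eq_cube_of_pow hr hpq hq2 (hfb ▸ h.sub hfD) (hfb ▸ hf)
      rcases hc _ hn with h4 | h4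
      · exact absurd h4 ((Nat.Prime.coprime_iff_not_dvd hr).1 (cop_n hr hpq).symm)
      · rw [h3, mul_comm] at h4
        exact hMul _ hn2 h4
    · rcases hc _ h.st with h2 | h2
      · exact h1 h2
      · exact hMul f (by omega) h2
  · -- the Frobenius case
    have := Fintype.ofFinite N
    have hbel : ∀ n ∈ charDegrees G, ∃ d ∈ charDegrees N, d ∣ n ∧ n / d ∣ f := by
      intro n hn
      obtain ⟨χ, hχ, hχn⟩ := mem_charDegrees.1 hn
      obtain ⟨ψ, d, hψ, hψd, -, hd1, hd2⟩ := exists_constituent N hχ hχn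
      rw [hNf] at hd2
      exact ⟨d, mem_charDegrees.2 ⟨ψ, hψ, hψd⟩, hd1, hd2⟩
    have hc' : ∀ d ∈ charDegrees N, r ^ m ∣ d ^ 2 ∨ f * d ∈ charDegrees G := by
      intro d hd
      obtain ⟨ψ, hψ, hψd⟩ := mem_charDegrees.1 hd
      exact hc ψ hψ d hψd
    have hrv : r ∣ r ^ m := dvd_pow_self r hm.ne'
    have hcr : ∀ d ∈ charDegrees N, r ∣ d ∨ f * d ∈ charDegrees G := fun d hd =>
      (hc' d hd).imp (fun h1 => hr.dvd_of_dvd_pow (hrv.trans h1)) id
    have hfD : f ∈ charDegrees G := by
      rcases hcr 1 one_mem with h1 | h1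
      · exact absurd h1 (not_dvd_one hr)
      · rwa [mul_one] at h1
    have hfr' : ¬ r ∣ f := (Nat.Prime.coprime_iff_not_dvd hr).1 hfr.symm
    by_cases hrq : r ∣ q
    · -- `r = p`
      have h2 : r = p := hqp r hr hrq
      subst h2
      have hfq : f.Coprime q := by
        rw [← hq]
        exact Nat.Coprime.pow_right F hfr
      -- `q = 2, f = 3` or `q = 4, f = 15`
      have hsmall : (q = 2 ∧ f = 3) ∨ (q = 4 ∧ f = 15) := by
        obtain ⟨d, hd, hd1, hd2⟩ := hbel _ h.two
        obtain ⟨e, he⟩ := hd1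
        have hd0 : 0 < d := pos_of_mem hd
        have hde : (q ^ 2 + q) / d = e := by rw [he]; exact Nat.mul_div_cancel_left e hd0
        rw [hde] at hd2
        have heq : e.Coprime q := hfq.coprime_dvd_left hd2
        have he1 : e ∣ q + 1 := by
          have h5 : e ∣ q * (q + 1) := ⟨d, by rw [show q * (q + 1) = q ^ 2 + q by ring, he]; ring⟩
          exact heq.dvd_of_dvd_mul_left h5
        obtain ⟨w, hw⟩ := he1
        have he0 : 0 < e := by
          rcases Nat.eq_zero_or_pos e with h0 | h0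
          · rw [h0, zero_mul] at hw
            omega
          · exact h0
        have hdw : d = q * w := by
          have h5 : e * d = e * (q * w) := by
            calc e * d = q ^ 2 + q := by rw [he]; ring
              _ = q * (q + 1) := by ring
              _ = e * (q * w) := by rw [hw]; ring
          exact Nat.eq_of_mul_eq_mul_left he0 h5
        rcases hc' d hd with h5 | h5
        · -- `|V| ≤ q ^ 2`
          have h6 : r ^ m ∣ q ^ 2 := by
            have hwr : w.Coprime r := (cop_succ hr hrq).coprime_dvd_left ⟨e, by rw [hw]; ring⟩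
            have h7 : (r ^ m).Coprime (w ^ 2) := Nat.Coprime.pow_left m (Nat.Coprime.pow_right 2 hwr.symm)
            rw [hdw, mul_pow] at h5
            exact h7.dvd_of_dvd_mul_right h5
          have h7 : r ^ m ≤ q ^ 2 := Nat.le_of_dvd (pow_pos (by omega) 2) h6
          exact of_lt_sq hq2 (h.sub hfD) hf (lt_of_lt_of_le hfm h7)
        · -- `f = e`
          obtain ⟨f', hf'⟩ := hd2
          have h6 : f * d = f' * (q * (q + 1)) := by rw [hf', hdw, hw]; ring
          rw [h6] at h5
          have h7 := eq_one_of_mul_mem hq2 (h.sub h5)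
          rw [h7, mul_one] at hf'
          have h8 : f ≤ q + 1 := by
            rw [hf', hw]
            exact Nat.le_of_dvd (by rw [← hw]; omega) (dvd_mul_right e w)
          exact Or.inl (of_le_succ hq2 (h.sub hfD) hf h8)
      rcases hsmall with ⟨rfl, rfl⟩ | ⟨rfl, rfl⟩
      · have hr2' : r = 2 := (Nat.prime_dvd_prime_iff_eq hr Nat.prime_two).1 hpq
        subst hr2'
        obtain ⟨d, hd, hd1, hd2⟩ := hbel _ hn
        norm_num at hd1 hd2
        have hd7 : d = 7 := by
          rcases (Nat.dvd_prime (by norm_num)).1 hd1 with h5 | h5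
          · subst h5
            norm_num at hd2
          · exact h5
        subst hd7
        rcases hcr 7 hd with h5 | h5
        · norm_num at h5
        · have h6 := h.sub h5
          rw [mem_DT] at h6
          norm_num at h6
      · have hr2' : r = 2 := by
          have : r ∣ 2 ^ 2 := by simpa using hpq
          exact (Nat.prime_dvd_prime_iff_eq hr Nat.prime_two).1 (hr.dvd_of_dvd_pow this)
        subst hr2'
        obtain ⟨d, hd, hd1, hd2⟩ := hbel _ hn
        norm_num at hd1 hd2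
        have hd7 : d = 7 ∨ d = 21 := by
          have h5 : d ∈ Nat.divisors 21 := Nat.mem_divisors.2 ⟨hd1, by norm_num⟩
          have h6 : Nat.divisors 21 = {1, 3, 7, 21} := by decide +kernel
          rw [h6] at h5
          simp only [Finset.mem_insert, Finset.mem_singleton] at h5
          rcases h5 with rfl | rfl | rfl | rfl
          · norm_num at hd2
          · norm_num at hd2
          · exact Or.inl rfl
          · exact Or.inr rfl
        rcases hd7 with rfl | rfl
        · rcases hcr 7 hd with h5 | h5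
          · norm_num at h5
          · have h6 := h.sub h5
            rw [mem_DT] at h6
            norm_num at h6
        · rcases hcr 21 hd with h5 | h5
          · norm_num at h5
          · have h6 := h.sub h5
            rw [mem_DT] at h6
            norm_num at h6
    · -- `r ≠ p`
      have hrq3 : ¬ r ∣ q ^ 3 := fun h5 => hrq (hr.dvd_of_dvd_pow h5)
      have hfq : f = q ^ 3 := by
        obtain ⟨d, hd, hd1, hd2⟩ := hbel _ h.st
        obtain ⟨e, he⟩ := hd1
        have hd0 : 0 < d := pos_of_mem hd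
        have hde : q ^ 3 / d = e := by rw [he]; exact Nat.mul_div_cancel_left e hd0
        rw [hde] at hd2
        obtain ⟨f', hf'⟩ := hd2
        rcases hcr d hd with h5 | h5
        · exact absurd (h5.trans ⟨e, he⟩) hrq3
        · have h6 : f * d = f' * q ^ 3 := by rw [hf', he]; ring
          rw [h6] at h5
          have h7 : f' < 2 := by
            by_contra h8
            exact hMul f' (by omega) h5
          have h8 : f' ≠ 0 := by
            rintro rfl
            omega
          have h9 : f' = 1 := by omega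
          rw [h9, mul_one] at hf'
          obtain ⟨b, hb⟩ := hpow e ⟨d, by rw [he]; ring⟩
          rw [hf', hb]
          exact eq_cube_of_pow hp hpq hq2 (by rw [← hb, ← hf']; exact h.sub hfD) (by rw [← hb, ← hf']; exact hf)
      subst hfq
      have hq3 : 0 < q ^ 3 := pow_pos (by omega) 3
      have hcn : (q ^ 2 + q + 1).Coprime (q ^ 3) := by
        apply Nat.Coprime.pow_right
        have : q ^ 2 + q + 1 = 1 + (q + 1) * q := by ring
        rw [this]
        simp
      -- `r ∣ n`
      have h1 : r ∣ q ^ 2 + q + 1 := by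
        obtain ⟨d, hd, hd1, hd2⟩ := hbel _ hn
        have h5 : (q ^ 2 + q + 1) / d = 1 :=
          Nat.Coprime.eq_one_of_dvd (hcn.coprime_dvd_left (Nat.div_dvd_of_dvd hd1)) hd2
        have h6 := Nat.div_mul_cancel hd1
        rw [h5, one_mul] at h6
        rcases hcr d hd with h7 | h7
        · rwa [h6] at h7
        · rw [h6, mul_comm] at h7
          exact absurd h7 (hMul _ hn2)
      -- `r ∣ q + 1`
      have h2 : r ∣ q ^ 2 + q := by
        obtain ⟨d, hd, hd1, hd2⟩ := hbel _ h.two
        rcases hcr d hd with h7 | h7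
        · exact h7.trans hd1
        · exfalso
          rw [mul_comm] at h7
          refine hMul d ?_ h7
          by_contra hlt
          have h8 : d = 1 := by
            have := pos_of_mem hd
            omega
          rw [h8, Nat.div_one] at hd2
          have h10 : (q + 1) ∣ q ^ 2 + q := ⟨q, by ring⟩
          have h9 : (q + 1) ∣ q ^ 3 := h10.trans hd2
          have hcop : (q + 1).Coprime q := by simp
          have := Nat.Coprime.eq_one_of_dvd (Nat.Coprime.pow_right 3 hcop) h9
          omega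
      exact not_dvd_one hr ((Nat.dvd_add_right h2).1 h1)

end Cfsg.Agent.H34.Perf3
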