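import Cfsg.Agent.H34.SporFull
import Cfsg.Agent.H713.Spor.Small

/-!
# S4834: `Co2` and `Co3`, `p = 5` (helper34)

The irreducible character of degree 23.
-/

set_option autoImplicit false

namespace Cfsg.Agent.H34.SporCo23

open Cfsg Cfsg.Agent.H635.Spor Cfsg.Agent.H34.SporTool Cfsg.Agent.H34.SporHyp Cfsg.Agent.H34.SporJ2Row Cfsg.Agent
open Cfsg.Agent.H34.SporFull Cfsg.Agent.H419.LeechFix Cfsg.Agent.H419.LeechIrr
open Cfsg.Spor (Co2 Co3)

universe u

theorem deg_of_lchi {G : Type*} [Group G] {f : G →* Co0} {μ : IrrCharacter G}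
    (hμ : ∀ g, lchi f g = 1 + (μ : G → ℂ) g) : charDegree (μ : G → ℂ) = 23 := by
  have h1 := hμ 1
  have h6 : lchi f 1 = 24 := by
    rw [lchi, map_one, Cfsg.Agent.SigZeroCo2.Lin.tr8_one]
    norm_num
  rw [h6] at h1
  apply H687.charDegree_of_eq
  push_cast
  linear_combination -h1

theorem exists_irr_Co3 : ∃ χ : IrrCharacter Co3, charDegree (χ : Co3 → ℂ) = 23 := by
  obtain ⟨hs, hcard⟩ := Cfsg.Agent.OddHalf.D8.RowCo3.card_of (K := Spor.Co3) ⟨MulEquiv.refl _⟩
  have hfin : Finite Spor.Co3 := Nat.finite_of_card_ne_zero (by rw [hcard]; norm_num)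
  obtain ⟨μ, hμ⟩ := irr23 Cfsg.Agent.H419.Spor.Co3.inc Cfsg.Agent.H419.Spor.Co3.inc_injective
    (by rw [hcard]; norm_num) Cfsg.Agent.H419.Spor.Co3.k ⟨Cfsg.Agent.H419.Spor.Co3.y14, fun h => by
      have := Cfsg.Agent.H419.Spor.Co3.order
      rw [h, orderOf_one] at this
      norm_num at this⟩ Cfsg.Agent.H419.Spor.Co3.inc_k (w := Spor.leechV) (fun h => by
        have := congrArg (fun v : leechLattice => (v : GolayPt → ℤ) none) h
        exact absurd this (by decide)) Cfsg.Agent.H419.Spor.Co3.inc_fix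
  exact ⟨μ, deg_of_lchi hμ⟩

theorem exists_irr_Co2 : ∃ χ : IrrCharacter Co2, charDegree (χ : Co2 → ℂ) = 23 := by
  have hs : IsSimpleGroup Spor.Co2 := Cfsg.Agent.Schreier.CoTwoStab.isSimpleGroup
  have hcard : Nat.card Spor.Co2 = 42305421312000 := Cfsg.Agent.BiChar.Small.card_Co2
  have hfin : Finite Spor.Co2 := Nat.finite_of_card_ne_zero (by rw [hcard]; norm_num)
  obtain ⟨μ, hμ⟩ := irr23 Cfsg.Agent.H419.Spor.Co2.inc Cfsg.Agent.H419.Spor.Co2.inc_injective
    (by rw [hcard]; norm_num) Cfsg.Agent.H419.Spor.Co2.k ⟨Cfsg.Agent.H419.Spor.Co3.y14, fun h => by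
      have := Cfsg.Agent.H419.Spor.Co2.order
      rw [h, orderOf_one] at this
      norm_num at this⟩ Cfsg.Agent.H419.Spor.Co2.inc_k (w := Cfsg.Agent.H419.Spor.Co2.leechW) (fun h => by
        have := congrArg (fun v : leechLattice => (v : GolayPt → ℤ) none) h
        exact absurd this (by decide)) Cfsg.Agent.H419.Spor.Co2.inc_fix
  exact ⟨μ, deg_of_lchi hμ⟩

/-- **`Co2`** -/
theorem good_Co2 {S : Type u} [Group S] [IsSimpleGroup S] (h : Spor.IsoCo2 S) : H687.Good 5 S := by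
  have hS : Hyp S := hyp_spor (by unfold IsSporadicGroup; tauto)
  have hc := NotCT.Orders.co2 h
  obtain ⟨e⟩ := h
  have hT := hyp_of_equiv e hS
  have := hT.fin
  refine H687.Good.of_equiv e ?_
  rw [Nat.card_congr e.toEquiv] at hc
  obtain ⟨χ, hχ⟩ := exists_irr_Co2
  refine good_of_full hT S2070.result (q := 23) (a := 1) (by norm_num) (by norm_num) (χ := χ)
    (by
      intro h
      rw [h, H687.charDegree_of_eq (n := 1) (by simp)] at hχ
      norm_num at hχ) (by rw [hχ]; norm_num) (by norm_num)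
    (by rw [hc]; norm_num) (by rw [hc]; norm_num) (by rw [hχ]; norm_num)

/-- **`Co3`** -/
theorem good_Co3 {S : Type u} [Group S] [IsSimpleGroup S] (h : Spor.IsoCo3 S) : H687.Good 5 S := by
  have hS : Hyp S := hyp_spor (by unfold IsSporadicGroup; tauto)
  have hc := NotCT.Orders.co3 h
  obtain ⟨e⟩ := h
  have hT := hyp_of_equiv e hS
  have := hT.fin
  refine H687.Good.of_equiv e ?_
  rw [Nat.card_congr e.toEquiv] at hc
  obtain ⟨χ, hχ⟩ := exists_irr_Co3
  refine good_of_full hT S2071.result (q := 23) (a := 1) (by norm_num) (by norm_num) (χ := χ)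
    (by
      intro h
      rw [h, H687.charDegree_of_eq (n := 1) (by simp)] at hχ
      norm_num at hχ) (by rw [hχ]; norm_num) (by norm_num)
    (by rw [hc]; norm_num) (by rw [hc]; norm_num) (by rw [hχ]; norm_num)

end Cfsg.Agent.H34.SporCo23
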