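import Cfsg.Agent.H34.SporHyp
import Cfsg.Agent.H34.SporTool
import Cfsg.Agent.HN.AutHS

/-!
# S4834: the Higman-Sims group, `p = 5` (helper34)
-/

set_option autoImplicit false

namespace Cfsg.Agent.H34.SporHS

open Cfsg Cfsg.Agent.H635.Spor Cfsg.Agent.H34.SporTool Cfsg.Agent.H34.SporHyp Cfsg.Agent.HN Cfsg.Agent.HN.HS100
open Cfsg.Agent.HN.DoubleCover Equiv Cfsg.Agent.H690.Spor.RankThree

universe u

theorem exists_pair : ∃ χ₁ χ₂ : IrrCharacter Q, charDegree (χ₁ : Q → ℂ) = 22 ∧ charDegree (χ₂ : Q → ℂ) = 77 ∧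
    AutInv (χ₁ : Q → ℂ) ∧ AutInv (χ₂ : Q → ℂ) := by
  have h := rank_Q
  have hne : ∀ {a b : Fin 100} {k : ℕ}, 1 < k → (MulAction.orbit (MulAction.stabilizer Q a) b).ncard = k → b ≠ a := by
    rintro a b k hk hb rfl
    rw [show MulAction.orbit (MulAction.stabilizer Q b) b = {b} from by
      ext y
      constructor
      · rintro ⟨⟨g, hg⟩, rfl⟩
        exact hg
      · rintro rfl
        exact MulAction.mem_orbit_self _, Set.ncard_singleton] at hb
    omega
  have hR := R3.of_orbits h.trans (hne h.hk h.cb) (hne h.hl h.cc) h.cb h.cc h.ne h.cardX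
  obtain ⟨χ₁, χ₂, h1, h2, hπ⟩ := frame_pair hR 22 77 rfl [64, 63, 65, 11, 17, 19, 23] (by decide) 6 (by norm_num) (by omega) (by decide +kernel)
  have hinv : AutInv (fun x : Q => (Nat.card (MulAction.fixedBy (Fin 100) x) : ℂ)) := by
    intro σ x
    obtain ⟨p, -, hp⟩ := AutHS.exists_perm σ
    show (Nat.card (MulAction.fixedBy (Fin 100) (σ x)) : ℂ) = (Nat.card (MulAction.fixedBy (Fin 100) x) : ℂ)
    congr 1
    refine Nat.card_congr (p.symm.subtypeEquiv fun y => ?_)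
    show ((σ x : Q) : Perm (Fin 100)) y = y ↔ (x : Perm (Fin 100)) (p.symm y) = p.symm y
    rw [hp x]
    show p ((x : Perm (Fin 100)) (p.symm y)) = y ↔ _
    rw [← Equiv.eq_symm_apply]
  obtain ⟨h3, h4⟩ := inv_of_perm (π := fun x : Q => (Nat.card (MulAction.fixedBy (Fin 100) x) : ℂ)) hπ
    (by rw [h1]; norm_num) (by rw [h2]; norm_num) (by rw [h1, h2]; norm_num) hinv
  exact ⟨χ₁, χ₂, h1, h2, h3, h4⟩

theorem good_HS {S : Type u} [Group S] [IsSimpleGroup S] (h : Spor.IsoHS S) : H687.Good 5 S := by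
  have hS : Hyp S := hyp_spor (by unfold IsSporadicGroup; tauto)
  have := hS.fin
  obtain ⟨e⟩ := h
  obtain ⟨⟨f⟩, -⟩ := AutHS.nonempty_Q
  refine H687.Good.of_equiv (e.trans f.symm) ?_
  obtain ⟨χ₁, χ₂, h1, h2, h3, -⟩ := exists_pair
  have hc : Subgroup.center Q = ⊥ := by
    have h5 := hS.center_eq_bot
    have h6 := (Subgroup.centerCongr (e.trans f.symm)).toEquiv
    rw [h5] at h6
    exact (Subgroup.eq_bot_iff_card _).2 ((Nat.card_congr h6).symm.trans (by simp))
  exact good_of_pair hc (by rw [← card_out_congr (e.trans f.symm)]; exact hS.out) (by norm_num) (by norm_num)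
    (by rw [h1]; norm_num) (by rw [h2]; norm_num) (by rw [h1]; norm_num) (by rw [h2]; norm_num) h3
    (by rw [h1, h2]; norm_num)

end Cfsg.Agent.H34.SporHS
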