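import Cfsg.Agent.H635.SporOut1
import Cfsg.Agent.H489.OutSpor
import Cfsg.Agent.NotCT.Orders

/-!
# S4834: the sporadic groups and the Tits group, primes `p` with `p² ∤ |S|` (helper34)

* `hyp_spor`, `hyp_tits` : the hypothesis structure `Hyp S` of `H635.Spor`;
* `good_small_spor`, `good_small_tits` : `Good p S` for `p > 3`, `p² ∤ |S|`.
-/

set_option autoImplicit false

namespace Cfsg.Agent.H34.SporHyp

open Cfsg Cfsg.Agent.H635.Spor Cfsg.Agent.NotCT

universe u

variable {S : Type u} [Group S]

theorem good_of_card (h : Hyp S) {N : ℕ} (hN : Nat.card S = N) (l : ℕ) (hl : l.Prime) (hl2 : l ≠ 2) (h1 : l ∣ N)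
    (h2 : ¬ l ^ 2 ∣ N) {p : ℕ} (hp : p.Prime) (hp2 : p ≠ 2) (hpp : ¬ p ^ 2 ∣ Nat.card S) : H687.Good p S := by
  by_cases hpN : p ∣ Nat.card S
  · exact good_of_exact h hp hp2 hpN hpp
  · exact good_of_not_dvd h hl hl2 (by rw [hN]; exact h1) (by rw [hN]; exact h2) hp hp2 hpN

theorem hyp_mk [Finite S] [IsSimpleGroup S] {N : ℕ} (hN : Nat.card S = N) (h2 : 2 ∣ N) (hN2 : N ≠ 2)
    (hO : Nat.card (Cfsg.Out S) ≤ 2) : Hyp S where
  fin := inferInstance
  simple := inferInstance
  np := by
    rw [hN]
    intro h
    rcases (Nat.dvd_prime h).1 h2 with h1 | h1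
    · omega
    · exact hN2 h1.symm
  out := hO

/-- The order of a sporadic group: even, not two, and exactly divisible by `5`, `7` or `11`. -/
theorem exists_prime_exact (h : IsSporadicGroup S) : ∃ N : ℕ, Nat.card S = N ∧ 2 ∣ N ∧ N ≠ 2 ∧ N ≠ 0 ∧
    ∃ l : ℕ, l.Prime ∧ l ≠ 2 ∧ l ∣ N ∧ ¬ l ^ 2 ∣ N := by
  rcases h with h | h | h | h | h | h | h | h | h | h | h | h | h | h | h | h | h | h | h | h | h | h | h | h | h | h
  · exact ⟨_, Orders.m11 h, by norm_num, by norm_num, by norm_num, 11, by norm_num, by norm_num, by norm_num, by norm_num⟩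
  · exact ⟨_, Orders.m12 h, by norm_num, by norm_num, by norm_num, 11, by norm_num, by norm_num, by norm_num, by norm_num⟩
  · exact ⟨_, Orders.m22 h, by norm_num, by norm_num, by norm_num, 11, by norm_num, by norm_num, by norm_num, by norm_num⟩
  · exact ⟨_, Orders.m23 h, by norm_num, by norm_num, by norm_num, 11, by norm_num, by norm_num, by norm_num, by norm_num⟩
  · exact ⟨_, Orders.m24 h, by norm_num, by norm_num, by norm_num, 11, by norm_num, by norm_num, by norm_num, by norm_num⟩
  · exact ⟨_, Orders.j1 h, by norm_num, by norm_num, by norm_num, 11, by norm_num, by norm_num, by norm_num, by norm_num⟩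
  · exact ⟨_, Orders.j2 h, by norm_num, by norm_num, by norm_num, 7, by norm_num, by norm_num, by norm_num, by norm_num⟩
  · exact ⟨_, Orders.j3 h, by norm_num, by norm_num, by norm_num, 17, by norm_num, by norm_num, by norm_num, by norm_num⟩
  · exact ⟨_, Orders.j4 h, by norm_num, by norm_num, by norm_num, 23, by norm_num, by norm_num, by norm_num, by norm_num⟩
  · exact ⟨_, Orders.co1 h, by norm_num, by norm_num, by norm_num, 11, by norm_num, by norm_num, by norm_num, by norm_num⟩
  · exact ⟨_, Orders.co2 h, by norm_num, by norm_num, by norm_num, 11, by norm_num, by norm_num, by norm_num, by norm_num⟩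
  · exact ⟨_, Orders.co3 h, by norm_num, by norm_num, by norm_num, 11, by norm_num, by norm_num, by norm_num, by norm_num⟩
  · exact ⟨_, Orders.mcl h, by norm_num, by norm_num, by norm_num, 11, by norm_num, by norm_num, by norm_num, by norm_num⟩
  · exact ⟨_, Orders.hs h, by norm_num, by norm_num, by norm_num, 11, by norm_num, by norm_num, by norm_num, by norm_num⟩
  · exact ⟨_, Orders.suz h, by norm_num, by norm_num, by norm_num, 11, by norm_num, by norm_num, by norm_num, by norm_num⟩
  · exact ⟨_, Orders.he h, by norm_num, by norm_num, by norm_num, 17, by norm_num, by norm_num, by norm_num, by norm_num⟩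
  · exact ⟨_, Orders.ru h, by norm_num, by norm_num, by norm_num, 29, by norm_num, by norm_num, by norm_num, by norm_num⟩
  · exact ⟨_, Orders.on h, by norm_num, by norm_num, by norm_num, 11, by norm_num, by norm_num, by norm_num, by norm_num⟩
  · exact ⟨_, Orders.ly h, by norm_num, by norm_num, by norm_num, 11, by norm_num, by norm_num, by norm_num, by norm_num⟩
  · exact ⟨_, Orders.fi22 h, by norm_num, by norm_num, by norm_num, 11, by norm_num, by norm_num, by norm_num, by norm_num⟩
  · exact ⟨_, Orders.fi23 h, by norm_num, by norm_num, by norm_num, 11, by norm_num, by norm_num, by norm_num, by norm_num⟩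
  · exact ⟨_, Orders.fi24 h, by norm_num, by norm_num, by norm_num, 11, by norm_num, by norm_num, by norm_num, by norm_num⟩
  · exact ⟨_, Orders.hn h, by norm_num, by norm_num, by norm_num, 11, by norm_num, by norm_num, by norm_num, by norm_num⟩
  · exact ⟨_, Orders.th h, by norm_num, by norm_num, by norm_num, 19, by norm_num, by norm_num, by norm_num, by norm_num⟩
  · exact ⟨_, Orders.b h, by norm_num, by norm_num, by norm_num, 11, by norm_num, by norm_num, by norm_num, by norm_num⟩
  · exact ⟨_, Orders.m h, by norm_num, by norm_num, by norm_num, 17, by norm_num, by norm_num, by norm_num, by norm_num⟩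

theorem hyp_spor [IsSimpleGroup S] (h : IsSporadicGroup S) : Hyp S := by
  obtain ⟨N, hN, h2, hN2, hN0, -⟩ := exists_prime_exact h
  have : Finite S := Nat.finite_of_card_ne_zero (by rw [hN]; exact hN0)
  exact hyp_mk hN h2 hN2 (H489.card_out_sporadic h)

theorem hyp_tits [IsSimpleGroup S] (h : Lie.IsoTits S) : Hyp S := by
  have hN := Orders.tits h
  have : Finite S := Nat.finite_of_card_ne_zero (by rw [hN]; norm_num)
  exact hyp_mk hN (by norm_num) (by norm_num) (H489.card_out_tits h)

/-- **Task 376, sporadic groups.** -/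
theorem good_small_spor [IsSimpleGroup S] (h : IsSporadicGroup S) {p : ℕ} (hp : p.Prime) (hp3 : 3 < p)
    (hpp : ¬ p ^ 2 ∣ Nat.card S) : H687.Good p S := by
  obtain ⟨N, hN, -, -, -, l, hl, hl2, h1, h2⟩ := exists_prime_exact h
  exact good_of_card (hyp_spor h) hN l hl hl2 h1 h2 hp (by omega) hpp

/-- **Task 376, the Tits group.** -/
theorem good_small_tits [IsSimpleGroup S] (h : Lie.IsoTits S) {p : ℕ} (hp : p.Prime) (hp3 : 3 < p)
    (hpp : ¬ p ^ 2 ∣ Nat.card S) : H687.Good p S :=
  good_of_card (hyp_tits h) (Orders.tits h) 13 (by norm_num) (by norm_num) (by norm_num) (by norm_num) hp (by omega) hpp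

end Cfsg.Agent.H34.SporHyp
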