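import Cfsg.Agent.H34.SporHyp
import Cfsg.Agent.H34.SporTool
import Cfsg.Agent.S1624
import Cfsg.Agent.S1680
import Cfsg.Agent.KFacts.J2.Basic
import Cfsg.Agent.J2Type.ThreeF
import Cfsg.Agent.H812.SuzSeven

/-!
# S4834: `J2` and `Suz`, `p = 5` : the facts (helper34)

* `j2_e` : the inertial index of `J2` for `7` is `6`; `exists_63` : a character of degree `63`;
* `suz_e` : the inertial index of `Suz` for `7` is `6`; `exists_1001` : a character of degree `1001`.
-/

set_option autoImplicit false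

namespace Cfsg.Agent.H34.SporJ2

open Cfsg Subgroup Cfsg.Agent.H635.Spor Cfsg.Agent.H34.SporTool Cfsg.Agent.H34.SporHyp Cfsg.Agent
open Cfsg.Agent.H690.Spor.RankThree

universe u

/-- The inertial index from the orders of the centralizer and of the normalizer. -/
theorem e_of_cards {S : Type u} [Group S] [Finite S] {l : ℕ} [Fact l.Prime] (K : Blk l S) {c n e : ℕ}
    (hc : Nat.card (centralizer ((K.P : Subgroup S) : Set S)) = c)
    (hn : Nat.card (normalizer ((K.P : Subgroup S) : Set S)) = n)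
    (he : c * e = n) (hc0 : 0 < c) : K.e = e := by
  have h1 := J2Type.SylowSeven.card_mul_relIndex' (J2Type.SylowSeven.centralizer_le_normalizer' (K.P : Subgroup S))
  have h2 : (centralizer ((K.P : Subgroup S) : Set S)).relIndex (normalizer ((K.P : Subgroup S) : Set S)) = K.e := K.he
  rw [h2, hc, hn, ← he] at h1
  exact Nat.eq_of_mul_eq_mul_left hc0 h1

theorem j2_e [Finite Spor.J2] [Fact (Nat.Prime 7)] (K : Blk 7 Spor.J2) : K.e = 6 := by
  obtain ⟨t, u, Q, v, ρ, D⟩ := KFacts.J2.Basic.exists_dat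
  have hG : Nat.card Spor.J2 = 604800 := J2Type.Order.card_of_fus D.F
  obtain ⟨h1, h2, -⟩ := J2Type.SylowSeven.sylow_seven hG (J2Type.ThreeF.not_seven_dvd_two D.F)
    (J2Type.ThreeF.not_seven_dvd_three D.F) K.P
  refine e_of_cards K (c := 7) ?_ h2 (by norm_num) (by norm_num)
  have h3 := K.hP
  rw [h1]
  exact h3

theorem exists_63 [Finite Spor.J2] : ∃ χ : IrrCharacter Spor.J2, charDegree (χ : Spor.J2 → ℂ) = 63 := by
  obtain ⟨H, hi, -, c₁, c₂, h1, h2⟩ := S1624.result
  obtain ⟨R, hR⟩ := R3.of_index H (k := 36) (l := 63) hi h1 h2 (by norm_num) (by norm_num) (by norm_num)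
  obtain ⟨χ₁, χ₂, -, h3, -⟩ := frame_pair hR 36 63 rfl [64, 63, 65, 11, 17, 19, 23] (by decide) 6 (by norm_num)
    (by omega) (by decide +kernel)
  exact ⟨χ₂, h3⟩

theorem suz_e [Finite Spor.Suz] [Fact (Nat.Prime 7)] (K : Blk 7 Spor.Suz) : K.e = 6 := by
  obtain ⟨⟨e⟩, h2⟩ := H812.SuzSeven.main (G := Spor.Suz) ⟨MulEquiv.refl _⟩ K.P
  refine e_of_cards K (c := 84) ?_ h2 (by norm_num) (by norm_num)
  have h3 := Nat.card_congr e.toEquiv
  rw [Nat.card_prod] at h3
  refine h3.trans ?_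
  have h4 : Nat.card (Multiplicative (ZMod 7)) = 7 := Nat.card_zmod 7
  have h5 : Nat.card (alternatingGroup (Fin 4)) = 12 := by
    rw [nat_card_alternatingGroup]
    simp [Nat.factorial]
  rw [h4, h5]

theorem exists_1001 [Finite Spor.Suz] : ∃ χ : IrrCharacter Spor.Suz, charDegree (χ : Spor.Suz → ℂ) = 1001 := by
  obtain ⟨hi, c₁, c₂, h1, h2⟩ := S1680.result
  obtain ⟨R, hR⟩ := R3.of_index _ (k := 416) (l := 1365) hi h1 h2 (by norm_num) (by norm_num) (by norm_num)
  obtain ⟨χ₁, χ₂, -, h3, -⟩ := frame_pair hR 780 1001 rfl [64, 63, 65, 11, 17, 19, 23] (by decide) 10 (by norm_num)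
    (by omega) (by decide +kernel)
  exact ⟨χ₂, h3⟩

end Cfsg.Agent.H34.SporJ2
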