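import Cfsg.Agent.H34.SporFull
import Cfsg.Agent.H419.Spor.Co1

/-!
# S4834: `Co1`, `p = 5` and `p = 7` (helper34)
-/

set_option autoImplicit false

namespace Cfsg.Agent.H34.SporCo1

open Cfsg Cfsg.Agent.H635.Spor Cfsg.Agent.H34.SporTool Cfsg.Agent.H34.SporHyp Cfsg.Agent.H34.SporJ2Row Cfsg.Agent
open Cfsg.Agent.H34.SporFull
open Cfsg.Spor (Co1)

universe u

/-- The irreducible character of degree 276. -/
theorem exists_irr : ∃ χ : IrrCharacter Co1, charDegree (χ : Co1 → ℂ) = 276 := by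
  obtain ⟨θ, hθ⟩ := Cfsg.Agent.H419.Spor.Co1.exists_irr (x := Cfsg.Agent.SporadicA.Co0Mono.permCo0
    Cfsg.Agent.H419.Spor.Co1.y6) (Cfsg.Agent.H419.Spor.Co1.psi_perm Cfsg.Agent.H419.Spor.Co1.y6_fix
    Cfsg.Agent.H419.Spor.Co1.y6_fix2)
  refine ⟨θ, H687.charDegree_of_eq ?_⟩
  have h := hθ 1
  rw [map_one, Cfsg.Agent.H419.Spor.Co1.psi_one] at h
  rw [h]
  norm_num

/-- **`Co1`** -/
theorem good_Co1 {S : Type u} [Group S] [IsSimpleGroup S] (h : Spor.IsoCo1 S) {p : ℕ} (hp : p = 5 ∨ p = 7) :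
    H687.Good p S := by
  have hS : Hyp S := hyp_spor (by unfold IsSporadicGroup; tauto)
  have hc := NotCT.Orders.co1 h
  obtain ⟨e⟩ := h
  have hT := hyp_of_equiv e hS
  have := hT.fin
  refine H687.Good.of_equiv e ?_
  rw [Nat.card_congr e.toEquiv] at hc
  obtain ⟨χ, hχ⟩ := exists_irr
  refine good_of_full hT S2069.result (q := 23) (a := 1) (by rcases hp with rfl | rfl <;> norm_num)
    (by rcases hp with rfl | rfl <;> norm_num) (χ := χ)
    (by
      intro h
      rw [h, H687.charDegree_of_eq (n := 1) (by simp)] at hχ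
      norm_num at hχ) (by rw [hχ]; rcases hp with rfl | rfl <;> norm_num) (by norm_num)
    (by rw [hc]; norm_num) (by rw [hc]; norm_num) (by rw [hχ]; norm_num)

end Cfsg.Agent.H34.SporCo1
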