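import Cfsg.Agent.H34.SporTool3

/-!
# S4834, sporadic rows: divisors of the inertial index (helper34)

`dvd_e` : an element of order `l` conjugate to its power `k`, `k` of order `m` modulo `l` : `m ∣ K.e`.
-/

set_option autoImplicit false
set_option linter.unusedSectionVars false

namespace Cfsg.Agent.H34.SporDvd

open Cfsg Cfsg.Agent.H635.Spor Cfsg.Agent.H34.SporTool Subgroup

universe u

/-- An element of order `l` conjugate to its power `k`, `k` of order `m` modulo `l`. -/
theorem dvd_e {S : Type u} [Group S] [Finite S] {l : ℕ} [hl : Fact l.Prime] (K : Blk l S) {z g : S}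
    (hz : orderOf z = l) {k : ℕ} (hg : g * z * g⁻¹ = z ^ k) : orderOf (k : ZMod l) ∣ K.e := by
  obtain ⟨c, hc⟩ := exists_conj_mem K.P hz
  obtain ⟨z', hz'⟩ : ∃ z', z' = c * z * c⁻¹ := ⟨_, rfl⟩
  obtain ⟨g', hg'⟩ : ∃ g', g' = c * g * c⁻¹ := ⟨_, rfl⟩
  rw [← hz'] at hc
  have ho : orderOf z' = l := by
    rw [hz', ← hz]
    exact orderOf_injective (MulAut.conj c).toMonoidHom (MulAut.conj c).injective z
  have hgz : g' * z' * g'⁻¹ = z' ^ k := by
    rw [hz', hg', conj_pow, ← hg]
    group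
  have hP : (K.P : Subgroup S) = zpowers z' := by
    symm
    apply Subgroup.eq_of_le_of_card_ge
    · rw [zpowers_le]; exact hc
    · rw [Nat.card_zpowers, ho, K.hP]
  have hN : g' ∈ normalizer ((K.P : Subgroup S) : Set S) := by
    apply mem_normalizer_fintype
    intro n hn
    have hn' : n ∈ zpowers z' := by rw [← hP]; exact hn
    obtain ⟨i, rfl⟩ := hn'
    show g' * z' ^ i * g'⁻¹ ∈ (K.P : Subgroup S)
    rw [← conj_zpow, hgz]
    exact zpow_mem (pow_mem hc k) i
  have he : K.e = Nat.card (K.P : Subgroup S).normalizerMonoidHom.range := by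
    have h0 : (centralizer ((K.P : Subgroup S) : Set S)).relIndex (normalizer ((K.P : Subgroup S) : Set S)) = K.e := K.he
    rw [← h0, relIndex, ← normalizerMonoidHom_ker, index_ker]
  rw [he]
  have hd : orderOf ((K.P : Subgroup S).normalizerMonoidHom ⟨g', hN⟩) ∣
      Nat.card (K.P : Subgroup S).normalizerMonoidHom.range := by
    rw [← Subgroup.orderOf_mk ((K.P : Subgroup S).normalizerMonoidHom ⟨g', hN⟩) (MonoidHom.mem_range.2 ⟨_, rfl⟩)]
    exact orderOf_dvd_natCard _
  refine dvd_trans ?_ hd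
  rw [orderOf_dvd_iff_pow_eq_one]
  obtain ⟨n, hn⟩ : ∃ n, n = orderOf ((K.P : Subgroup S).normalizerMonoidHom ⟨g', hN⟩) := ⟨_, rfl⟩
  rw [← hn]
  have h1 : ((K.P : Subgroup S).normalizerMonoidHom ⟨g', hN⟩) ^ n = 1 := by rw [hn]; exact pow_orderOf_eq_one _
  rw [← map_pow] at h1
  have h2 := congrArg Subtype.val (DFunLike.congr_fun h1 ⟨z', hc⟩)
  have h3 : g' ^ n * z' * (g' ^ n)⁻¹ = z' := h2
  have h4 : ∀ i : ℕ, g' ^ i * z' * (g' ^ i)⁻¹ = z' ^ (k ^ i) := by
    intro i
    induction i with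
    | zero => simp
    | succ i ih =>
      calc g' ^ (i + 1) * z' * (g' ^ (i + 1))⁻¹ = g' * (g' ^ i * z' * (g' ^ i)⁻¹) * g'⁻¹ := by
            rw [pow_succ']; group
        _ = (g' * z' * g'⁻¹) ^ (k ^ i) := by rw [ih, conj_pow]
        _ = z' ^ (k ^ (i + 1)) := by rw [hgz, ← pow_mul, pow_succ']
  rw [h4 n] at h3
  have h5 : z' ^ (k ^ n) = z' ^ 1 := by rw [h3, pow_one]
  rw [pow_inj_mod, ho] at h5
  have h6 := (ZMod.natCast_eq_natCast_iff' (k ^ n) 1 l).2 h5
  rw [Nat.cast_pow, Nat.cast_one] at h6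
  exact h6

/-- The orders of centralizer and normalizer. -/
theorem card_mul_e {S : Type u} [Group S] [Finite S] {l : ℕ} [hl : Fact l.Prime] (K : Blk l S) :
    Nat.card (centralizer ((K.P : Subgroup S) : Set S)) * K.e =
      Nat.card (normalizer ((K.P : Subgroup S) : Set S)) := by
  have h1 := J2Type.SylowSeven.card_mul_relIndex' (J2Type.SylowSeven.centralizer_le_normalizer' (K.P : Subgroup S))
  have h2 : (centralizer ((K.P : Subgroup S) : Set S)).relIndex (normalizer ((K.P : Subgroup S) : Set S)) = K.e := K.he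
  rwa [h2] at h1

/-- The Sylow subgroup lies in its centralizer. -/
theorem P_le {S : Type u} [Group S] [Finite S] {l : ℕ} [hl : Fact l.Prime] (K : Blk l S) :
    (K.P : Subgroup S) ≤ centralizer ((K.P : Subgroup S) : Set S) := by
  have hcyc : IsCyclic (K.P : Subgroup S) := isCyclic_of_prime_card (p := l) K.hP
  intro x hx
  rw [mem_centralizer_iff]
  intro y hy
  have := hcyc.isMulCommutative.is_comm.comm (⟨y, hy⟩ : (K.P : Subgroup S)) ⟨x, hx⟩
  exact congrArg Subtype.val this

end Cfsg.Agent.H34.SporDvd
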