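import Cfsg.Agent.H34.SporJ2
import Cfsg.Agent.H34.SporTool2
import Cfsg.Agent.H635.SporOut1

/-!
# S4834: `J2` and `Suz`, `p = 5` (helper34)
-/

set_option autoImplicit false

namespace Cfsg.Agent.H34.SporJ2Row

open Cfsg Cfsg.Agent.H635.Spor Cfsg.Agent.H34.SporTool Cfsg.Agent.H34.SporHyp Cfsg.Agent

universe u v

theorem hyp_of_equiv {S : Type u} {T : Type v} [Group S] [Group T] (e : S ≃* T) (h : Hyp S) : Hyp T where
  fin := by
    have := h.fin
    exact Finite.of_equiv S e.toEquiv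
  simple := by
    have := h.simple
    exact e.symm.isSimpleGroup
  np := by rw [← Nat.card_congr e.toEquiv]; exact h.np
  out := by rw [← card_out_congr e]; exact h.out

theorem good_seven {S : Type u} [Group S] (h : Hyp S) [Finite S] (he : ∀ [Fact (Nat.Prime 7)], ∀ K : Blk 7 S, K.e = 6)
    (h1 : 7 ∣ Nat.card S) (h2 : ¬ 7 ^ 2 ∣ Nat.card S) {d : ℕ} (hd1 : d ≠ 1) (hd5 : ¬ 5 ∣ d) (hd7 : 7 ∣ d)
    (hχ : ∃ χ : IrrCharacter S, charDegree (χ : S → ℂ) = d) : H687.Good 5 S := by
  have : Fact (Nat.Prime 7) := ⟨by norm_num⟩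
  obtain ⟨K⟩ := exists_blk 7 (by norm_num) S h1 h2
  obtain ⟨χ, hχ⟩ := hχ
  have ht : K.t = 1 := by
    have h3 := K.ht
    rw [he K] at h3
    omega
  refine good_of_t_one K h (by norm_num) ht (by norm_num) (by norm_num) (χ := χ) ?_ (by rw [hχ]; exact hd5)
    (by rw [hχ]; exact hd7)
  intro h3
  apply hd1
  rw [← hχ]
  apply H687.charDegree_of_eq
  rw [h3]
  simp

/-- **`J2`** -/
theorem good_J2 {S : Type u} [Group S] [IsSimpleGroup S] (h : Spor.IsoJ2 S) : H687.Good 5 S := by
  have hS : Hyp S := hyp_spor (by unfold IsSporadicGroup; tauto)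
  have hc := NotCT.Orders.j2 h
  obtain ⟨e⟩ := h
  have hT := hyp_of_equiv e hS
  have := hT.fin
  refine H687.Good.of_equiv e ?_
  have hc' := (Nat.card_congr e.toEquiv).symm.trans hc
  exact good_seven hT (fun K => SporJ2.j2_e K) (by rw [hc']; norm_num) (by rw [hc']; norm_num) (by norm_num)
    (by norm_num) (by norm_num) SporJ2.exists_63

/-- **`Suz`** -/
theorem good_Suz {S : Type u} [Group S] [IsSimpleGroup S] (h : Spor.IsoSuz S) : H687.Good 5 S := by
  have hS : Hyp S := hyp_spor (by unfold IsSporadicGroup; tauto)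
  have hc := NotCT.Orders.suz h
  obtain ⟨e⟩ := h
  have hT := hyp_of_equiv e hS
  have := hT.fin
  refine H687.Good.of_equiv e ?_
  have hc' := (Nat.card_congr e.toEquiv).symm.trans hc
  exact good_seven hT (fun K => SporJ2.suz_e K) (by rw [hc']; norm_num) (by rw [hc']; norm_num) (by norm_num)
    (by norm_num) (by norm_num) SporJ2.exists_1001

end Cfsg.Agent.H34.SporJ2Row
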