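import Cfsg.Agent.H34.SporTool2
import Cfsg.Agent.H34.SporJ2Row
import Cfsg.Agent.LThreeFi22.Inst
import Cfsg.Agent.R08.AutT

/-!
# S4834: `Fi22`, `p = 5` (helper34)
-/

set_option autoImplicit false

namespace Cfsg.Agent.H34.SporFi22

open Cfsg Cfsg.Agent.H635.Spor Cfsg.Agent.H34.SporTool Cfsg.Agent.H34.SporHyp Cfsg.Agent.H34.SporJ2Row Cfsg.Agent
open Cfsg.Agent.LThreeFi22.Inst (ctx mem_TK)

universe u

/-- an invariant character of degree `429` or `2079` -/
theorem exists_inv [Finite Spor.Fi22] : ∃ χ : IrrCharacter Spor.Fi22, AutInv (χ : Spor.Fi22 → ℂ) ∧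
    (charDegree (χ : Spor.Fi22 → ℂ) = 429 ∨ charDegree (χ : Spor.Fi22 → ℂ) = 2079) := by
  obtain ⟨e, he⟩ : ∃ e : Spor.Fi22 ≃* Spor.Fi22, e = MulEquiv.refl _ := ⟨_, rfl⟩
  have C := ctx e
  obtain ⟨d, hd, χ₁, χ₂, h1, h2, h3⟩ := exists_pair_of_class (MonoidHom.id Spor.Fi22) (T := KFacts.FiTT.TK e) (k := 693) (l := 2816)
    (fun t ht g => C.conj t ht g) (by norm_num) (by norm_num) C.ncard C.link C.transC C.transN
    [(429, 3080), (1430, 2079)] (by decide) [64, 63, 65, 11, 17, 19, 23, 31] (by decide) 11 (by norm_num)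
    (by intro f hf; omega) (by decide +kernel)
  have hinv : AutInv (fixT (MonoidHom.id Spor.Fi22) (KFacts.FiTT.TK e)) := by
    refine autInv_fixT _ fun σ => ⟨σ, fun x => rfl, fun t => ?_⟩
    rw [mem_TK, mem_TK, he]
    constructor
    · intro ht
      exact R08.AutT.aut_mem σ ht
    · intro ht
      have := R08.AutT.aut_mem σ.symm ht
      rw [MulEquiv.refl_apply, σ.symm_apply_apply] at this
      exact this
  rw [List.mem_cons, List.mem_cons] at hd
  rcases hd with rfl | rfl | hd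
  · obtain ⟨h4, h5⟩ := inv_of_perm h3 (by rw [h1]; norm_num) (by rw [h2]; norm_num) (by rw [h1, h2]; norm_num) hinv
    exact ⟨χ₁, h4, Or.inl h1⟩
  · obtain ⟨h4, h5⟩ := inv_of_perm h3 (by rw [h1]; norm_num) (by rw [h2]; norm_num) (by rw [h1, h2]; norm_num) hinv
    exact ⟨χ₂, h5, Or.inr h2⟩
  · simp at hd

theorem nt_of_deg {S : Type u} [Group S] {χ : IrrCharacter S} {d : ℕ} (h : charDegree (χ : S → ℂ) = d)
    (hd : d ≠ 1) : Nt χ := by
  intro h3
  apply hd
  rw [← h]
  apply H687.charDegree_of_eq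
  rw [h3]
  simp

/-- **`Fi22`** -/
theorem good_Fi22 {S : Type u} [Group S] [IsSimpleGroup S] (h : Spor.IsoFi22 S) : H687.Good 5 S := by
  have hS : Hyp S := hyp_spor (by unfold IsSporadicGroup; tauto)
  have hc := NotCT.Orders.fi22 h
  obtain ⟨e⟩ := h
  have hT := hyp_of_equiv e hS
  have := hT.fin
  refine H687.Good.of_equiv e ?_
  have hc' := (Nat.card_congr e.toEquiv).symm.trans hc
  obtain ⟨χ, hχ, hd | hd⟩ := exists_inv
  · have : Fact (Nat.Prime 13) := ⟨by norm_num⟩
    obtain ⟨K⟩ := exists_blk 13 (by norm_num) Spor.Fi22 (by rw [hc']; norm_num) (by rw [hc']; norm_num)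
    refine good_of_inv hT (by norm_num) K (by norm_num) (by norm_num) (nt_of_deg hd (by norm_num)) hχ hd
      (by norm_num) (by norm_num) (by norm_num) [(3, 1), (11, 1), (13, 1)] ?_ (by decide +kernel) (by decide +kernel)
      [2, 3, 4, 6, 12] (mem_of_dvs hT (by decide +kernel) K) (by decide +kernel)
    intro x hx
    simp only [List.mem_cons, List.not_mem_nil, or_false] at hx
    rcases hx with rfl | rfl | rfl <;> norm_num
  · have : Fact (Nat.Prime 7) := ⟨by norm_num⟩
    obtain ⟨K⟩ := exists_blk 7 (by norm_num) Spor.Fi22 (by rw [hc']; norm_num) (by rw [hc']; norm_num)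
    refine good_of_inv hT (by norm_num) K (by norm_num) (by norm_num) (nt_of_deg hd (by norm_num)) hχ hd
      (by norm_num) (by norm_num) (by norm_num) [(3, 3), (7, 1), (11, 1)] ?_ (by decide +kernel) (by decide +kernel)
      [2, 3, 6] (mem_of_dvs hT (by decide +kernel) K) (by decide +kernel)
    intro x hx
    simp only [List.mem_cons, List.not_mem_nil, or_false] at hx
    rcases hx with rfl | rfl | rfl <;> norm_num

end Cfsg.Agent.H34.SporFi22
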