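import Cfsg.Agent.H34.SporTool2
import Cfsg.Agent.H34.SporJ2Row
import Cfsg.Agent.R08.FiTwentyFour
import Cfsg.Agent.KFacts.FiTF.FrameF

/-!
# S4834: `Fi24'`, `p = 5, 7` (helper34)
-/

set_option autoImplicit false

namespace Cfsg.Agent.H34.SporFi24

open Cfsg Cfsg.Spor Cfsg.Agent.H635.Spor Cfsg.Agent.H34.SporTool Cfsg.Agent.H34.SporHyp Cfsg.Agent.H34.SporJ2Row
open Cfsg.Agent Cfsg.Agent.R08 Cfsg.Agent.R08.FiTwentyFour
open Cfsg.Agent.Fischer.Fi24Class (gen gen_comm)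

universe u

theorem gen_mem (x : Spor.Fi24.Gen) : gen x ∈ L := Fischer.Fi24Class.isConj_gen x

/-- transitivity on the noncommuting pairs -/
theorem trans_nc {a b a' b' : Spor.Fi24} (ha : a ∈ L) (hb : b ∈ L) (ha' : a' ∈ L) (hb' : b' ∈ L)
    (h : a * b ≠ b * a) (h' : a' * b' ≠ b' * a') : ∃ g : Spor.Fi24, g * a * g⁻¹ = a' ∧ g * b * g⁻¹ = b' := by
  obtain ⟨R, -, -, hR⟩ := facts.exists_rank3
  rw [← hR] at ha hb ha' hb'
  have key : ∀ x y, ¬ R.Com x y → ∃ g : Spor.Fi24, g • R.x0 = x ∧ g • R.b = y := by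
    intro x y hxy
    obtain ⟨g, rfl⟩ := R.trans x
    have h1 : ¬ R.Com R.x0 (g⁻¹ • y) := by
      rw [← R.com_smul g, smul_inv_smul]
      exact hxy
    obtain ⟨h, h2, h3⟩ := R.not_com_x0_iff.1 h1
    refine ⟨g * h, by rw [mul_smul, h2], by rw [mul_smul, h3, smul_inv_smul]⟩
  obtain ⟨x, rfl⟩ := ha
  obtain ⟨y, rfl⟩ := hb
  obtain ⟨x', rfl⟩ := ha'
  obtain ⟨y', rfl⟩ := hb'
  obtain ⟨g, rfl, rfl⟩ := key x y h
  obtain ⟨g', rfl, rfl⟩ := key x' y' h'
  refine ⟨g' * g⁻¹, ?_, ?_⟩ <;> rw [← R.map_smul, mul_smul, inv_smul_smul]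

theorem card_ne : Nat.card (commutator Spor.Fi24) ≠ 1 := by
  rw [card_commutator]; norm_num

/-- the same in the commutator subgroup -/
theorem trans_nc' {a b a' b' : Spor.Fi24} (ha : a ∈ L) (hb : b ∈ L) (ha' : a' ∈ L) (hb' : b' ∈ L)
    (h : a * b ≠ b * a) (h' : a' * b' ≠ b' * a') :
    ∃ g ∈ commutator Spor.Fi24, g * a * g⁻¹ = a' ∧ g * b * g⁻¹ = b' := by
  obtain ⟨g, h1, h2⟩ := trans_nc ha hb ha' hb' h h'
  by_cases hg : g ∈ commutator Spor.Fi24
  · exact ⟨g, hg, h1, h2⟩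
  obtain ⟨k, hk1, hk2⟩ := trans_nc (gen_mem .l) (gen_mem .k) ha hb (Fischer.Fi24Class.k_ncomm_l card_ne) h
  have hc : k * gen .b * k⁻¹ ∈ L := conj (gen_mem .b) k
  have e1 : k * gen .b * k⁻¹ * a = a * (k * gen .b * k⁻¹) := by
    rw [← hk1]
    have : gen .b * gen .l = gen .l * gen .b := gen_comm .b .l (by decide)
    calc k * gen .b * k⁻¹ * (k * gen .l * k⁻¹) = k * (gen .b * gen .l) * k⁻¹ := by group
      _ = k * (gen .l * gen .b) * k⁻¹ := by rw [this]
      _ = k * gen .l * k⁻¹ * (k * gen .b * k⁻¹) := by group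
  have e2 : k * gen .b * k⁻¹ * b = b * (k * gen .b * k⁻¹) := by
    rw [← hk2]
    have : gen .b * gen .k = gen .k * gen .b := gen_comm .b .k (by decide)
    calc k * gen .b * k⁻¹ * (k * gen .k * k⁻¹) = k * (gen .b * gen .k) * k⁻¹ := by group
      _ = k * (gen .k * gen .b) * k⁻¹ := by rw [this]
      _ = k * gen .k * k⁻¹ * (k * gen .b * k⁻¹) := by group
  generalize k * gen .b * k⁻¹ = c at hc e1 e2
  refine ⟨g * c, ?_, ?_, ?_⟩
  · rw [Subgroup.mul_mem_iff_of_index_two index_commutator]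
    exact ⟨fun h => absurd h hg, fun h => absurd h (odd hc)⟩
  · rw [← h1, mul_inv_rev]
    calc g * c * a * (c⁻¹ * g⁻¹) = g * (c * a) * c⁻¹ * g⁻¹ := by group
      _ = g * (a * c) * c⁻¹ * g⁻¹ := by rw [e1]
      _ = g * a * g⁻¹ := by group
  · rw [← h2, mul_inv_rev]
    calc g * c * b * (c⁻¹ * g⁻¹) = g * (c * b) * c⁻¹ * g⁻¹ := by group
      _ = g * (b * c) * c⁻¹ * g⁻¹ := by rw [e2]
      _ = g * b * g⁻¹ := by group

theorem exists_inv [Finite Spor.Fi24'] : ∃ χ₁ χ₂ : IrrCharacter Spor.Fi24', AutInv (χ₁ : Spor.Fi24' → ℂ) ∧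
    AutInv (χ₂ : Spor.Fi24' → ℂ) ∧ charDegree (χ₁ : Spor.Fi24' → ℂ) = 57477 ∧
    charDegree (χ₂ : Spor.Fi24' → ℂ) = 249458 := by
  obtain ⟨d, hd, χ₁, χ₂, h1, h2, h3⟩ := exists_pair_of_class (commutator Spor.Fi24).subtype (T := L) (k := 31671)
    (l := 275264) (fun t ht g => conj ht _) (by norm_num) (by norm_num) ncard_L (fun d hd => by
      rw [← ncard_commuting hd]
      congr 1
      ext c
      exact and_congr_right fun _ => and_congr_right fun _ => ⟨fun h => h.symm, fun h => h.symm⟩)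
    (fun a ha b hb a' ha' b' hb' h h' hc hc' => by
      obtain ⟨g, hg, h1, h2⟩ := trans2 ha hb ha' hb' h hc h' hc'
      exact ⟨⟨g, hg⟩, h1, h2⟩)
    (fun a ha b hb a' ha' b' hb' h h' => by
      obtain ⟨g, hg, h1, h2⟩ := trans_nc' ha hb ha' hb' h h'
      exact ⟨⟨g, hg⟩, h1, h2⟩)
    [(57477, 249458)] (by decide) [64, 63, 65, 11, 17, 19, 23, 41] (by decide) 17 (by norm_num)
    (by intro f hf; omega) (by decide +kernel)
  have hinv : AutInv (fixT (commutator Spor.Fi24).subtype L) := by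
    refine autInv_fixT _ fun σ => ?_
    obtain ⟨g, hg⟩ := KFacts.FiTF.exists_conj σ
    refine ⟨MulAut.conj g, fun x => hg x, fun t => ⟨fun ht => conj ht g, fun ht => ?_⟩⟩
    have := conj ht g⁻¹
    rw [MulAut.conj_apply] at this
    have e : g⁻¹ * (g * t * g⁻¹) * g⁻¹⁻¹ = t := by group
    rwa [e] at this
  rw [List.mem_singleton] at hd
  subst hd
  obtain ⟨h4, h5⟩ := inv_of_perm h3 (by rw [h1]; norm_num) (by rw [h2]; norm_num) (by rw [h1, h2]; norm_num) hinv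
  exact ⟨χ₁, χ₂, h4, h5, h1, h2⟩

theorem nt_of_deg {S : Type u} [Group S] {χ : IrrCharacter S} {d : ℕ} (h : charDegree (χ : S → ℂ) = d)
    (hd : d ≠ 1) : Nt χ := by
  intro h3
  apply hd
  rw [← h]
  apply H687.charDegree_of_eq
  rw [h3]
  simp

/-- **`Fi24'`** -/
theorem good_Fi24 {S : Type u} [Group S] [IsSimpleGroup S] (h : Spor.IsoFi24' S) {p : ℕ} (hp : p = 5 ∨ p = 7) :
    H687.Good p S := by
  have hS : Hyp S := hyp_spor (by unfold IsSporadicGroup; tauto)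
  obtain ⟨e⟩ := h
  have hT := hyp_of_equiv e hS
  have := hT.fin
  refine H687.Good.of_equiv e ?_
  have hc' : Nat.card Spor.Fi24' = 1255205709190661721292800 := card_commutator
  obtain ⟨χ₁, χ₂, hi1, hi2, h1, h2⟩ := exists_inv
  rcases hp with rfl | rfl
  · exact good_of_pair hT.center_eq_bot hT.out (by norm_num) (by norm_num)
      (by rw [h1]; norm_num) (by rw [h2]; norm_num) (by rw [h1]; norm_num) (by rw [h2]; norm_num) hi1
      (by rw [h1, h2]; norm_num)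
  · have : Fact (Nat.Prime 17) := ⟨by norm_num⟩
    obtain ⟨K⟩ := exists_blk 17 (by norm_num) Spor.Fi24' (by rw [hc']; norm_num) (by rw [hc']; norm_num)
    refine good_of_inv hT (by norm_num) K (by norm_num) (by norm_num) (nt_of_deg h2 (by norm_num)) hi2 h2
      (by norm_num) (by norm_num) (by norm_num) [(2, 1), (11, 1), (17, 1), (23, 1), (29, 1)] ?_ (by decide +kernel)
      (by decide +kernel) [2, 4, 8, 16] (mem_of_dvs hT (by decide +kernel) K) (by decide +kernel)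
    intro x hx
    simp only [List.mem_cons, List.not_mem_nil, or_false] at hx
    rcases hx with rfl | rfl | rfl | rfl | rfl <;> norm_num

end Cfsg.Agent.H34.SporFi24
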