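import Cfsg.Agent.H34.SporTool3
import Cfsg.Agent.H34.SporJ2Row

/-!
# S4834: one irreducible character of full `q`-degree (helper34)

`good_of_full` : `Out S = 1`, one irreducible character of degree prime to `p` divisible by the full power of a prime
`q`; then `Good p S`.
-/

set_option autoImplicit false

namespace Cfsg.Agent.H34.SporFull

open Cfsg Cfsg.Agent.H635.Spor Cfsg.Agent.H34.SporTool Cfsg.Agent.H34.SporHyp Cfsg.Agent.H34.SporJ2Row Cfsg.Agent

universe u

theorem good_of_full {S : Type u} [Group S] (h : Hyp S) (hO : Nat.card (Cfsg.Out S) = 1) {p : ℕ} (hp : p.Prime)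
    (hp2 : p ≠ 2) {χ : IrrCharacter S} (hχ : Nt χ) (hχp : ¬ p ∣ charDegree (χ : S → ℂ)) {q a : ℕ} (hq : q.Prime)
    (hqS : q ∣ Nat.card S) (ha : ¬ q ^ (a + 1) ∣ Nat.card S) (hqa : q ^ a ∣ charDegree (χ : S → ℂ)) :
    H687.Good p S := by
  have := h.fin
  by_contra hng
  obtain ⟨d, hd⟩ := flat_of_not_good h hO hp hp2 hng
  apply hd.not_full hp.one_lt hq hqS ha
  rw [← hd χ hχ hχp]
  exact hqa

end Cfsg.Agent.H34.SporFull
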