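import Cfsg.Agent.H34.SporTool3
import Cfsg.Agent.H34.SporDvd
import Cfsg.Agent.H34.SporJ2Row
import Cfsg.Agent.H845.HNMult
import Cfsg.Agent.H845.HNSeven

/-!
# S4834: `HN`, `p = 5` (helper34)

The 133-dimensional representation modulo 31 lifts to an irreducible character of degree `133 = 7 * 19`
(helper845); the inertial index of the Sylow `7`-subgroup is `6`.
-/

set_option autoImplicit false

namespace Cfsg.Agent.H34.SporHN

open Cfsg Cfsg.Agent.H635.Spor Cfsg.Agent.H34.SporTool Cfsg.Agent.H34.SporHyp Cfsg.Agent.H34.SporJ2Row Cfsg.Agent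
open Cfsg.Agent.CpAutHN.Alt (Φ Φ_inj A12 cy)
open Cfsg.Agent.H845.HNSeven (c7 c7_mem X7 order_X7)
open Equiv.Perm (mem_alternatingGroup)
open Cfsg.Spor (HN)
open Cfsg.Agent.H34.SporDvd (dvd_e)

universe u

def g7 : Equiv.Perm (Fin 12) := cy [1, 3, 2, 6, 4, 5] * cy [7, 8]

theorem g7_mem : g7 ∈ alternatingGroup (Fin 12) := by rw [mem_alternatingGroup]; decide +kernel

theorem conj_c7 : g7 * c7 * g7⁻¹ = c7 ^ 3 := by decide +kernel

theorem conj_X7 : Φ ⟨g7, g7_mem⟩ * X7 * (Φ ⟨g7, g7_mem⟩)⁻¹ = X7 ^ 3 := by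
  have h : (⟨g7, g7_mem⟩ : A12) * ⟨c7, c7_mem⟩ * (⟨g7, g7_mem⟩ : A12)⁻¹ = ⟨c7, c7_mem⟩ ^ 3 := Subtype.ext conj_c7
  unfold X7
  rw [← map_inv, ← map_mul, ← map_mul, h, map_pow]

/-- The irreducible character of degree 133. -/
theorem exists_irr : ∃ χ : IrrCharacter HN, charDegree (χ : HN → ℂ) = 133 := by
  obtain ⟨ρ, hρ, -⟩ := Cfsg.Agent.H845.HNMult.exists_rep
  refine ⟨⟨ρ.character, 133, ρ, hρ, rfl⟩, ?_⟩
  apply H687.charDegree_of_eq
  show ρ.character 1 = _
  rw [Representation.character, map_one, LinearMap.trace_one, Module.finrank_fin_fun]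

/-- **`HN`** -/
theorem good_HN {S : Type u} [Group S] [IsSimpleGroup S] (h : Spor.IsoHN S) : H687.Good 5 S := by
  have hS : Hyp S := hyp_spor (by unfold IsSporadicGroup; tauto)
  obtain ⟨e⟩ := h
  have hT := hyp_of_equiv e hS
  have := hT.fin
  refine H687.Good.of_equiv e ?_
  have hc' : Nat.card HN = 273030912000000 := Cfsg.Agent.KFacts.HN.Classes.card_HN
  have : Fact (Nat.Prime 7) := ⟨by norm_num⟩
  obtain ⟨K⟩ := exists_blk 7 (by norm_num) HN (by rw [hc']; norm_num) (by rw [hc']; norm_num)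
  have he : K.e = 6 := by
    have h1 := mem_of_pow K hT (dvd_e K order_X7 conj_X7) (E := [6]) (by decide +kernel)
    simpa using h1
  have ht : K.t = 1 := by
    have := K.ht
    rw [he] at this
    omega
  obtain ⟨χ, hχ⟩ := exists_irr
  exact good_of_t_one K hT (by norm_num) ht (by norm_num) (by norm_num) (χ := χ)
    (by
      intro h
      rw [h, H687.charDegree_of_eq (n := 1) (by simp)] at hχ
      norm_num at hχ) (by rw [hχ]; norm_num) (by rw [hχ]; norm_num)

end Cfsg.Agent.H34.SporHN
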