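import Cfsg.Agent.H34.SporFull
import Cfsg.Agent.H419.Spor.Monster
import Cfsg.Agent.S2085

/-!
# S4834: the Monster (helper34)
-/

set_option autoImplicit false

namespace Cfsg.Agent.H34.SporM

open Cfsg Cfsg.Agent.H635.Spor Cfsg.Agent.H34.SporTool Cfsg.Agent.H34.SporHyp Cfsg.Agent.H34.SporJ2Row Cfsg.Agent
open Cfsg.Agent.H34.SporFull
open Cfsg.Spor (Monster)

universe u

/-- **The Monster** -/
theorem good_M {S : Type u} [Group S] [IsSimpleGroup S] (h : Spor.IsoM S) {p : ℕ}
    (hp : p = 5 ∨ p = 7 ∨ p = 11 ∨ p = 13) : H687.Good p S := by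
  have hS : Hyp S := hyp_spor (by unfold IsSporadicGroup; tauto)
  have hc := NotCT.Orders.m h
  obtain ⟨e⟩ := h
  have hT := hyp_of_equiv e hS
  have := hT.fin
  refine H687.Good.of_equiv e ?_
  rw [Nat.card_congr e.toEquiv] at hc
  obtain ⟨χ, hχ⟩ := Cfsg.Agent.H419.Spor.Monster.exists_irr
  refine good_of_full hT S2085.result (q := 71) (a := 1) (by rcases hp with rfl | rfl | rfl | rfl <;> norm_num)
    (by rcases hp with rfl | rfl | rfl | rfl <;> norm_num) (χ := χ)
    (by
      intro h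
      rw [h, H687.charDegree_of_eq (n := 1) (by simp)] at hχ
      norm_num at hχ) (by rw [hχ]; rcases hp with rfl | rfl | rfl | rfl <;> norm_num) (by norm_num)
    (by rw [hc]; norm_num) (by rw [hc]; norm_num) (by rw [hχ]; norm_num)

end Cfsg.Agent.H34.SporM
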