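import Cfsg.Agent.H34.SporTool2
import Cfsg.Agent.H34.SporJ2Row
import Cfsg.Agent.KFacts.ON.Aut
import Cfsg.Agent.H661.SporCount

/-!
# S4834: `O'N`, `p = 7` (helper34)

The inertial indices of the primes `5, 11, 19, 31` are divisible by `4, 10, 6, 15`: explicit words.
-/

set_option autoImplicit false
set_option maxRecDepth 100000

namespace Cfsg.Agent.H34.SporON

open Cfsg Cfsg.Agent.H635.Spor Cfsg.Agent.H34.SporTool Cfsg.Agent.H34.SporHyp Cfsg.Agent.H34.SporJ2Row Cfsg.Agent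
open Subgroup
open Cfsg.Spor (ON)
open Cfsg.Spor.ON (Gen)
open Cfsg.Agent.KFacts.MulSpor.ON (w)
open Cfsg.Agent.KFacts.ON.Words (conj)
open Cfsg.Agent.KFacts.ON.Aut (wpow ne_w)

universe u

/-- An element of order `l` conjugate to its power `k`, `k` of order `m` modulo `l`. -/
theorem dvd_e {S : Type u} [Group S] [Finite S] {l : ℕ} [hl : Fact l.Prime] (K : Blk l S) {z g : S}
    (hz : orderOf z = l) {k : ℕ} (hg : g * z * g⁻¹ = z ^ k) : orderOf (k : ZMod l) ∣ K.e := by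
  obtain ⟨c, hc⟩ := exists_conj_mem K.P hz
  obtain ⟨z', hz'⟩ : ∃ z', z' = c * z * c⁻¹ := ⟨_, rfl⟩
  obtain ⟨g', hg'⟩ : ∃ g', g' = c * g * c⁻¹ := ⟨_, rfl⟩
  rw [← hz'] at hc
  have ho : orderOf z' = l := by
    rw [hz', ← hz]
    exact orderOf_injective (MulAut.conj c).toMonoidHom (MulAut.conj c).injective z
  have hgz : g' * z' * g'⁻¹ = z' ^ k := by
    rw [hz', hg', conj_pow, ← hg]
    group
  have hP : (K.P : Subgroup S) = zpowers z' := by
    symm
    apply Subgroup.eq_of_le_of_card_ge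
    · rw [zpowers_le]; exact hc
    · rw [Nat.card_zpowers, ho, K.hP]
  have hN : g' ∈ normalizer ((K.P : Subgroup S) : Set S) := by
    apply mem_normalizer_fintype
    intro n hn
    have hn' : n ∈ zpowers z' := by rw [← hP]; exact hn
    obtain ⟨i, rfl⟩ := hn'
    show g' * z' ^ i * g'⁻¹ ∈ (K.P : Subgroup S)
    rw [← conj_zpow, hgz]
    exact zpow_mem (pow_mem hc k) i
  have he : K.e = Nat.card (K.P : Subgroup S).normalizerMonoidHom.range := by
    have h0 : (centralizer ((K.P : Subgroup S) : Set S)).relIndex (normalizer ((K.P : Subgroup S) : Set S)) = K.e := K.he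
    rw [← h0, relIndex, ← normalizerMonoidHom_ker, index_ker]
  rw [he]
  have hd : orderOf ((K.P : Subgroup S).normalizerMonoidHom ⟨g', hN⟩) ∣
      Nat.card (K.P : Subgroup S).normalizerMonoidHom.range := by
    rw [← Subgroup.orderOf_mk ((K.P : Subgroup S).normalizerMonoidHom ⟨g', hN⟩) (MonoidHom.mem_range.2 ⟨_, rfl⟩)]
    exact orderOf_dvd_natCard _
  refine dvd_trans ?_ hd
  rw [orderOf_dvd_iff_pow_eq_one]
  obtain ⟨n, hn⟩ : ∃ n, n = orderOf ((K.P : Subgroup S).normalizerMonoidHom ⟨g', hN⟩) := ⟨_, rfl⟩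
  rw [← hn]
  have h1 : ((K.P : Subgroup S).normalizerMonoidHom ⟨g', hN⟩) ^ n = 1 := by rw [hn]; exact pow_orderOf_eq_one _
  rw [← map_pow] at h1
  have h2 := congrArg Subtype.val (DFunLike.congr_fun h1 ⟨z', hc⟩)
  have h3 : g' ^ n * z' * (g' ^ n)⁻¹ = z' := h2
  have h4 : ∀ i : ℕ, g' ^ i * z' * (g' ^ i)⁻¹ = z' ^ (k ^ i) := by
    intro i
    induction i with
    | zero => simp
    | succ i ih =>
      calc g' ^ (i + 1) * z' * (g' ^ (i + 1))⁻¹ = g' * (g' ^ i * z' * (g' ^ i)⁻¹) * g'⁻¹ := by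
            rw [pow_succ']; group
        _ = (g' * z' * g'⁻¹) ^ (k ^ i) := by rw [ih, conj_pow]
        _ = z' ^ (k ^ (i + 1)) := by rw [hgz, ← pow_mul, pow_succ']
  rw [h4 n] at h3
  have h5 : z' ^ (k ^ n) = z' ^ 1 := by rw [h3, pow_one]
  rw [pow_inj_mod, ho] at h5
  have h6 := (ZMod.natCast_eq_natCast_iff' (k ^ n) 1 l).2 h5
  rw [Nat.cast_pow, Nat.cast_one] at h6
  exact h6

theorem order_aux {m l : ℕ} {x : ZMod l} (h : x ^ m = 1) (hm : 0 < m) (h' : ∀ p : ℕ, p.Prime → p ∣ m → x ^ (m / p) ≠ 1) :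
    orderOf x = m := orderOf_eq_of_pow_and_pow_div_prime hm h h'

/-! ### `5` -/

/-- an element of order `5` -/
def x5 : List Gen := [.c, .g, .e, .d]

/-- a conjugating element -/
def u5 : List Gen :=
  [.e, .d, .c, .d, .f, .e, .g, .d, .c, .d, .e]

theorem ord5 : orderOf (w x5) = 5 := by
  have : Fact (Nat.Prime 5) := ⟨by norm_num⟩
  refine orderOf_eq_prime ?_ ?_
  · rw [wpow]
    exact KFacts.MulSpor.ON.rel KFacts.ON.Words.hs _ (by decide +kernel)
  · exact ne_w x5 [] (by decide +kernel)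

theorem conj5 : w u5 * w x5 * (w u5)⁻¹ = w x5 ^ 2 := by
  rw [wpow]
  exact conj _ _ _ (by decide +kernel)

/-! ### `11` -/

/-- an element of order `11` -/
def x11 : List Gen := [.b, .a, .f, .g, .e, .d, .c]

/-- a conjugating element -/
def u11 : List Gen :=
  [.a, .g, .g, .g, .d, .e, .a, .g, .g, .g, .d, .e, .a, .g, .g, .g, .d, .e, .g, .g, .g, .c, .b, .a, .g, .g, .g, .d, .e, .a, .g, .g, .g, .d, .e, .a, .g, .g, .g, .d, .e, .g, .g, .g, .c, .b, .e, .d, .g, .a, .g, .g, .g, .c, .b, .a, .g, .g, .g, .d, .e, .g, .g, .g, .c, .b, .a, .g, .g, .g, .d, .e, .b, .c, .g, .e, .d, .g, .a, .g, .g, .g, .c, .b, .g, .g, .g, .c, .b, .e, .d, .g, .a, .e, .d, .g, .a, .e, .d, .g, .a, .b, .c, .g, .a, .g, .g, .g, .d, .e, .a, .g, .g, .g, .d, .e]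

theorem ord11 : orderOf (w x11) = 11 := by
  have : Fact (Nat.Prime 11) := ⟨by norm_num⟩
  refine orderOf_eq_prime ?_ ?_
  · rw [wpow]
    exact KFacts.MulSpor.ON.rel KFacts.ON.Words.hs _ (by decide +kernel)
  · exact ne_w x11 [] (by decide +kernel)

theorem conj11 : w u11 * w x11 * (w u11)⁻¹ = w x11 ^ 2 := by
  rw [wpow]
  exact conj _ _ _ (by decide +kernel)

/-! ### `19` -/

/-- an element of order `19` -/
def x19 : List Gen := [.d, .e, .c, .b, .a, .f]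

/-- a conjugating element -/
def u19 : List Gen :=
  [.e, .d, .g, .a, .g, .g, .g, .c, .b, .g, .g, .g, .c, .b, .e, .d, .g, .a, .g, .g, .g, .c, .b, .e, .d, .g, .a, .e, .d, .g, .a, .g, .g, .g, .c, .b, .g, .g, .g, .c, .b, .g, .g, .g, .c, .b, .a, .g, .g, .g, .d, .e, .g, .g, .g, .c, .b, .a, .g, .g, .g, .d, .e, .g, .g, .g, .c, .b, .a, .g, .g, .g, .d, .e, .a, .g, .g, .g, .d, .e, .g, .g, .g, .c, .b, .a, .g, .g, .g, .d, .e, .g, .g, .g, .c, .b, .e, .d, .g, .a, .e, .d, .g, .a, .g, .g, .g, .c, .b]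

theorem ord19 : orderOf (w x19) = 19 := by
  have : Fact (Nat.Prime 19) := ⟨by norm_num⟩
  refine orderOf_eq_prime ?_ ?_
  · rw [wpow]
    exact KFacts.MulSpor.ON.rel KFacts.ON.Words.hs _ (by decide +kernel)
  · exact ne_w x19 [] (by decide +kernel)

theorem conj19 : w u19 * w x19 * (w u19)⁻¹ = w x19 ^ 8 := by
  rw [wpow]
  exact conj _ _ _ (by decide +kernel)

/-! ### `31` -/

/-- an element of order `31` -/
def x31 : List Gen := [.c, .e, .d, .b, .g]

/-- a conjugating element -/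
def u31 : List Gen :=
  [.b, .c, .g, .b, .c, .g, .b, .c, .g, .a, .g, .g, .g, .d, .e, .g, .g, .g, .c, .b, .g, .g, .g, .c, .b, .a, .g, .g, .g, .d, .e, .a, .g, .g, .g, .d, .e, .g, .g, .g, .c, .b, .a, .g, .g, .g, .d, .e, .a, .g, .g, .g, .d, .e, .g, .g, .g, .c, .b, .g, .g, .g, .c, .b, .e, .d, .g, .a, .b, .c, .g, .a, .g, .g, .g, .d, .e, .b, .c, .g, .e, .d, .g, .a, .g, .g, .g, .c, .b, .a, .g, .g, .g, .d, .e, .a, .g, .g, .g, .d, .e]

theorem ord31 : orderOf (w x31) = 31 := by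
  have : Fact (Nat.Prime 31) := ⟨by norm_num⟩
  refine orderOf_eq_prime ?_ ?_
  · rw [wpow]
    exact KFacts.MulSpor.ON.rel KFacts.ON.Words.hs _ (by decide +kernel)
  · exact ne_w x31 [] (by decide +kernel)

theorem conj31 : w u31 * w x31 * (w u31)⁻¹ = w x31 ^ 7 := by
  rw [wpow]
  exact conj _ _ _ (by decide +kernel)

end Cfsg.Agent.H34.SporON
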