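import Cfsg.Agent.H34.SporTool3
import Cfsg.Agent.H34.SporON

/-!
# S4834: `O'N`, `p = 7` (helper34)
-/

set_option autoImplicit false

namespace Cfsg.Agent.H34.SporONRow

open Cfsg Cfsg.Agent.H635.Spor Cfsg.Agent.H34.SporTool Cfsg.Agent.H34.SporHyp Cfsg.Agent.H34.SporJ2Row Cfsg.Agent
open Cfsg.Agent.H34.SporON
open Cfsg.Spor (ON)

universe u

/-- the sets of possible inertial indices -/
theorem e_mem (h : Hyp ON) [Finite ON] : ∀ x ∈ [(5, [4]), (11, [10]), (19, [6, 18]), (31, [15, 30])],
    ∀ [Fact (Nat.Prime x.1)], ∀ K : Blk x.1 ON, K.e ∈ x.2 := by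
  intro x hx
  simp only [List.mem_cons, List.not_mem_nil, or_false] at hx
  rcases hx with rfl | rfl | rfl | rfl <;> intro _ K
  · exact mem_of_pow K h (dvd_e K ord5 conj5) (by decide +kernel)
  · exact mem_of_pow K h (dvd_e K ord11 conj11) (by decide +kernel)
  · exact mem_of_pow K h (dvd_e K ord19 conj19) (by decide +kernel)
  · exact mem_of_pow K h (dvd_e K ord31 conj31) (by decide +kernel)

/-- **`O'N`** -/
theorem good_ON {S : Type u} [Group S] [IsSimpleGroup S] (h : Spor.IsoON S) : H687.Good 7 S := by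
  have hS : Hyp S := hyp_spor (by unfold IsSporadicGroup; tauto)
  have hc := NotCT.Orders.on h
  obtain ⟨e⟩ := h
  have hT := hyp_of_equiv e hS
  have := hT.fin
  refine H687.Good.of_equiv e ?_
  have hc' : Nat.card ON = 460815505920 := (Nat.card_congr e.toEquiv).symm.trans hc
  have : Fact (Nat.Prime 5) := ⟨by norm_num⟩
  obtain ⟨K⟩ := exists_blk 5 (by norm_num) ON (by rw [hc']; norm_num) (by rw [hc']; norm_num)
  have he : K.e = 4 := by
    have := e_mem hT (5, [4]) (by simp) K
    simpa using this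
  have ht : K.t = 1 := by
    have := K.ht
    rw [he] at this
    omega
  obtain ⟨α, h1, h2, h3⟩ := exists_inv_of_t_one K hT (by norm_num) ht (p := 7) (by norm_num)
  refine good_of_invSieve hT (by norm_num) (by norm_num) h1 h2 h3 hc'
    [(2, 9), (3, 4), (5, 1), (11, 1), (19, 1), (31, 1)] 3 (by decide +kernel) ?_ (by decide +kernel)
    [(5, [4]), (11, [10]), (19, [6, 18]), (31, [15, 30])] ?_ (e_mem hT) (by decide +kernel)
  · intro x hx
    simp only [List.mem_cons, List.not_mem_nil, or_false] at hx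
    rcases hx with rfl | rfl | rfl | rfl | rfl | rfl <;> norm_num
  · intro x hx
    simp only [List.mem_cons, List.not_mem_nil, or_false] at hx
    rcases hx with rfl | rfl | rfl | rfl <;> norm_num

end Cfsg.Agent.H34.SporONRow
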