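import Cfsg.Agent.H34.SporThWords
import Cfsg.Agent.H34.SporJ2Row
import Cfsg.Agent.S2083

/-!
# S4834: the Thompson group, `p = 5` and `p = 7` (helper34)
-/

set_option autoImplicit false

namespace Cfsg.Agent.H34.SporTh

open Cfsg Cfsg.Agent.H635.Spor Cfsg.Agent.H34.SporTool Cfsg.Agent.H34.SporHyp Cfsg.Agent.H34.SporJ2Row Cfsg.Agent
open Cfsg.Spor (Th)

universe u

theorem e_mem (h : Hyp Th) : ∀ x ∈ [(13, [2, 3, 4, 6, 12]), (19, [18]), (31, [15, 30])],
    ∀ [Fact (Nat.Prime x.1)] [Finite Th] (K : Blk x.1 Th), K.e ∈ x.2 := by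
  intro x hx
  simp only [List.mem_cons, List.not_mem_nil, or_false] at hx
  rcases hx with rfl | rfl | rfl <;> intro _ _ K
  · exact mem_of_dvs h (by decide +kernel) K
  · have : K.e = 18 := e19 K
    simp [this]
  · have h1 : 15 ∣ K.e := e31 K
    have h2 : K.e ∣ 30 := ⟨K.t, K.ht.symm⟩
    obtain ⟨c, hc⟩ := h1
    have h3 : c ∣ 2 := by
      rw [hc] at h2
      exact Nat.dvd_of_mul_dvd_mul_left (by norm_num : 0 < 15) (by simpa using h2)
    rcases (Nat.dvd_prime Nat.prime_two).1 h3 with rfl | rfl <;> simp [hc]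

theorem sieve5 : allD (tst 90745943887872000 5 [(13, [2, 3, 4, 6, 12]), (19, [18]), (31, [15, 30])] [])
    (bnd 5 [(2, 15), (3, 10), (5, 3), (7, 2), (13, 1), (19, 1), (31, 1)]) 1 = true := by
  decide +kernel

theorem sieve7 : allD (tst 90745943887872000 7 [(13, [2, 3, 4, 6, 12]), (19, [18]), (31, [15, 30])] [])
    (bnd 7 [(2, 15), (3, 10), (5, 3), (7, 2), (13, 1), (19, 1), (31, 1)]) 1 = true := by
  decide +kernel

/-- **`Th`** -/
theorem good_Th {S : Type u} [Group S] [IsSimpleGroup S] (h : Spor.IsoTh S) {p : ℕ} (hp : p = 5 ∨ p = 7) :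
    H687.Good p S := by
  have hS : Hyp S := hyp_spor (by unfold IsSporadicGroup; tauto)
  have hc := NotCT.Orders.th h
  obtain ⟨e⟩ := h
  have hT := hyp_of_equiv e hS
  have := hT.fin
  refine H687.Good.of_equiv e ?_
  rw [Nat.card_congr e.toEquiv] at hc
  have hp' : p.Prime := by rcases hp with rfl | rfl <;> norm_num
  by_contra hng
  obtain ⟨d, hd⟩ := flat_of_not_good hT S2083.result hp' (by rcases hp with rfl | rfl <;> norm_num) hng
  have := hd.mem_surv hT hp' [(2, 15), (3, 10), (5, 3), (7, 2), (13, 1), (19, 1), (31, 1)] 90745943887872000 hc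
    (by decide +kernel) ?_ (by decide +kernel) [(13, [2, 3, 4, 6, 12]), (19, [18]), (31, [15, 30])] ?_
    (e_mem hT) [] (by rcases hp with rfl | rfl; exacts [sieve5, sieve7])
  · simp at this
  · intro x hx
    simp only [List.mem_cons, List.not_mem_nil, or_false] at hx
    rcases hx with rfl | rfl | rfl | rfl | rfl | rfl | rfl <;> norm_num
  · intro x hx
    simp only [List.mem_cons, List.not_mem_nil, or_false] at hx
    rcases hx with rfl | rfl | rfl <;> norm_num

end Cfsg.Agent.H34.SporTh
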