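import Cfsg.Agent.H34.SporDvd
import Cfsg.Agent.H34.SporHyp
import Cfsg.Agent.H933.TitsSep
import Cfsg.Agent.H235.TitsRow

/-!
# S4834: the Tits group, `p = 5` (helper34)

`C(13) = 13`, `e = 6`. If some nontrivial nonexceptional member of the principal 13-block has degree prime to 5 then
all characters of degree prime to 5 lie in the block and the sum of the squares of the degrees is not divisible
by 25; otherwise the exceptional degree is `6` or `384`, but an element of order 5 has a centralizer of order 50.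
-/

set_option autoImplicit false

namespace Cfsg.Agent.H34.SporTits

open Cfsg Cfsg.Agent.H635.Spor Cfsg.Agent.H34.SporTool Cfsg.Agent.H34.SporHyp Cfsg.Agent.H34.SporDvd Cfsg.Agent
open Cfsg.Agent.Characters.Core Cfsg.Agent.SmallSimple.DegreeData Subgroup
open Cfsg.Agent.H235.TitsIdx (Facts)
open scoped ComplexConjugate

universe u

variable {S : Type u} [Group S] [Finite S]

/-- the block for `13` -/
theorem e_eq (h : Hyp S) (F : Facts S) [Fact (Nat.Prime 13)] (K : Blk 13 S) :
    K.e = 6 ∧ Nat.card (centralizer ((K.P : Subgroup S) : Set S)) = 13 := by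
  have f2 : Fact (Nat.Prime 2) := ⟨by norm_num⟩
  obtain ⟨D⟩ := F.dat
  have hx := Facts.order_x D
  have h1 : K.e ∈ [3, 6, 12] := mem_of_pow K h (dvd_e K hx (k := 3) D.txt) (by decide +kernel)
  obtain ⟨P, hP⟩ := H933.TitsSep.exists_thirteen F
  have h2 : Nat.card (normalizer ((K.P : Subgroup S) : Set S)) = 78 := by
    rw [← hP]
    have e1 := K.P.card_eq_index_normalizer
    have e2 := P.card_eq_index_normalizer
    have e3 := (normalizer ((K.P : Subgroup S) : Set S)).card_mul_index
    have e4 := (normalizer ((P : Subgroup S) : Set S)).card_mul_index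
    have e5 : (normalizer ((K.P : Subgroup S) : Set S)).index = (normalizer ((P : Subgroup S) : Set S)).index :=
      e1.symm.trans e2
    rw [e5] at e3
    have e6 : 0 < (normalizer ((P : Subgroup S) : Set S)).index := by
      rw [← e5]; exact Nat.pos_of_ne_zero (index_ne_zero_of_finite)
    exact Nat.eq_of_mul_eq_mul_right e6 (e3.trans e4.symm)
  have h3 := card_mul_e K
  rw [h2] at h3
  have h4 : ¬ 2 ∣ Nat.card (centralizer ((K.P : Subgroup S) : Set S)) := by
    intro hd
    obtain ⟨t, ht⟩ := exists_prime_orderOf_dvd_card' (G := centralizer ((K.P : Subgroup S) : Set S)) 2 hd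
    obtain ⟨z, hz⟩ := exists_prime_orderOf_dvd_card' (G := (K.P : Subgroup S)) 13 (by rw [K.hP])
    exact F.na z t (by rw [Subgroup.orderOf_coe, hz]) (by rw [Subgroup.orderOf_coe, ht])
      (mem_centralizer_iff.1 t.2 z z.2)
  simp only [List.mem_cons, List.not_mem_nil, or_false] at h1
  rcases h1 with h1 | h1 | h1 <;> rw [h1] at h3
  · exfalso; omega
  · exact ⟨h1, by omega⟩
  · exfalso; omega

/-- the value at an element of order 5 -/
theorem exists_val (F : Facts S) {y : S} (hy : orderOf y = 5) {χ : S → ℂ} (hχ : IsCharacter S χ) {f : ℕ}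
    (hf : χ 1 = f) : ∃ w m : ℤ, χ y = w ∧ (f : ℤ) + 24 * w = 25 * m := by
  classical
  have f5 : Fact (Nat.Prime 5) := ⟨by norm_num⟩
  obtain ⟨Q⟩ : Nonempty (Sylow 5 S) := inferInstance
  have hQ := F.card_syl Q
  have := Fintype.ofFinite (Q : Subgroup S)
  have hcl := isCharacter_isClassFunction hχ
  have hval : ∀ q ∈ Finset.univ.erase (1 : (Q : Subgroup S)), χ q = χ y := by
    intro q hq
    have hq1 : (q : S) ≠ 1 := fun e => Finset.ne_of_mem_erase hq (Subtype.ext e)
    have ho := F.order_syl Q q.2 hq1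
    obtain ⟨g, hg⟩ := isConj_iff.1 (F.one y q hy ho)
    rw [← hg]
    exact hcl y g
  obtain ⟨m, hm⟩ := classInner_isNat (Characters.Clifford.isCharacter_restrict (Q : Subgroup S) hχ)
    (isIrr_isCharacter (isIrr_one (G := (Q : Subgroup S))))
  rw [classInner_def, hQ] at hm
  have hs : ∑ q : (Q : Subgroup S), χ q * conj ((1 : ↥(Q : Subgroup S) → ℂ) q) = f + 24 * χ y := by
    have e1 : ∀ q : (Q : Subgroup S), χ q * conj ((1 : ↥(Q : Subgroup S) → ℂ) q) = χ q := by
      intro q; simp
    rw [Finset.sum_congr rfl fun q _ => e1 q, ← Finset.add_sum_erase _ _ (Finset.mem_univ (1 : (Q : Subgroup S))),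
      Finset.sum_congr rfl hval, Finset.sum_const, Finset.card_erase_of_mem (Finset.mem_univ _), Finset.card_univ,
      ← Nat.card_eq_fintype_card, hQ]
    have : χ ((1 : (Q : Subgroup S)) : S) = f := hf
    rw [this, nsmul_eq_mul]
    norm_num
  rw [hs] at hm
  have h1 : (f : ℂ) + 24 * χ y = 25 * m := by
    have : (25 : ℂ) ≠ 0 := by norm_num
    push_cast at hm
    field_simp at hm
    linear_combination hm
  have h2 : ∃ q : ℚ, χ y = q := ⟨(25 * m - f) / 24, by push_cast; linear_combination h1 / 24⟩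
  obtain ⟨w, hw⟩ := Characters.GaloisBasic.exists_int_of_isIntegral (Characters.GaloisBasic.isIntegral_apply hχ y) h2
  refine ⟨w, m, hw, ?_⟩
  rw [hw] at h1
  exact_mod_cast h1

/-- the bound for the exceptional characters -/
theorem two_mul_sq_le (F : Facts S) [Fact (Nat.Prime 13)] (K : Blk 13 S) (ht : K.t = 2) {y : S}
    (hy : orderOf y = 5) {Θ : IrrCharacter S} (hΘ : Θ ∈ K.B.X) {w : ℤ} (hw : (Θ : S → ℂ) y = w) : 2 * w ^ 2 ≤ 49 := by
  classical
  have := Fintype.ofFinite S
  have : Finite (IrrCharacter S) := finite_irr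
  have := Fintype.ofFinite (IrrCharacter S)
  have hcol := S0145.sum_irr_mul_conj y y
  rw [if_pos (IsConj.refl y), F.cent y hy] at hcol
  have h1 : ∑ χ : IrrCharacter S, Complex.normSq ((χ : S → ℂ) y) = 50 := by
    have e1 : ((∑ χ : IrrCharacter S, Complex.normSq ((χ : S → ℂ) y) : ℝ) : ℂ) = ((50 : ℝ) : ℂ) := by
      push_cast
      rw [show (50 : ℂ) = ((50 : ℕ) : ℂ) by norm_num, ← hcol]
      exact Finset.sum_congr rfl fun χ _ => by rw [Complex.mul_conj]
    exact_mod_cast e1
  have h13 : ¬ 13 ∣ orderOf y := by rw [hy]; norm_num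
  have hv : ∀ χ ∈ K.B.X, Complex.normSq ((χ : S → ℂ) y) = (w : ℝ) ^ 2 := by
    intro χ hχ
    have e1 := K.B.rel χ hχ y h13
    have e2 := K.B.rel Θ hΘ y h13
    have e3 : (χ : S → ℂ) y = (Θ : S → ℂ) y := by
      have e4 : (K.B.d : ℂ) * (χ : S → ℂ) y = K.B.d * (Θ : S → ℂ) y := e1.symm.trans e2
      rcases K.B.d_mem with hd | hd <;> rw [hd] at e4
      · push_cast at e4; linear_combination e4
      · push_cast at e4; linear_combination -e4
    rw [e3, hw]
    have : ((w : ℤ) : ℂ) = ((w : ℝ) : ℂ) := by push_cast; rfl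
    rw [this, Complex.normSq_ofReal]
    ring
  have hone : K.B.one ∉ K.B.X := K.B.notMem_X _ List.mem_cons_self
  have h2 : ∑ χ ∈ insert K.B.one K.B.X, Complex.normSq ((χ : S → ℂ) y) ≤ 50 := by
    rw [← h1]
    exact Finset.sum_le_sum_of_subset_of_nonneg (Finset.subset_univ _) fun _ _ _ => Complex.normSq_nonneg _
  have hcX : K.B.X.card = 2 := K.B.card_X.trans ht
  rw [Finset.sum_insert hone, Finset.sum_congr rfl hv, Finset.sum_const, hcX, K.B.coe_one] at h2
  have h3 : Complex.normSq ((1 : S → ℂ) y) = 1 := by simp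
  rw [h3, nsmul_eq_mul] at h2
  have h4 : (1 : ℝ) + 2 * (w : ℝ) ^ 2 ≤ 50 := by exact_mod_cast h2
  have h5 : (1 : ℤ) + 2 * w ^ 2 ≤ 50 := by exact_mod_cast h4
  linarith

/-! ### the arithmetic -/

/-- exceptional degree, no nonexceptional degree prime to 5 -/
def tB (f : ℕ) : Bool :=
  !((Nat.beq (f % 13) 6 && Nat.beq (f % 5) 1) || (Nat.beq ((f + 6) % 13) 0 && Nat.beq ((f + 1) % 5) 0)) ||
    !(Nat.ble (f % 25) 4 || Nat.ble 21 (f % 25))

/-- the conditions mod 25 and 5 -/
def cA (u x : ℤ) (n : ℕ) : Bool :=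
  decide ((1 + n * u ^ 2 + 2 * x ^ 2) % 25 = 0) && decide ((1 + n * u - x) % 5 = 0)

/-- degree of the nonexceptional characters -/
def tA (d : ℕ) : Bool :=
  Nat.ble 17971200 (d * d) || [(d : ℤ), -(d : ℤ)].all fun u => !(decide (u % 13 = 1)) || [1, 2, 3, 4, 5].all fun n =>
    !(cA u 0 n) && allD (fun x => !(Nat.beq (d % x) 0) || [(x : ℤ), -(x : ℤ)].all fun x' =>
      !(decide (x' % 13 = 6)) || !(cA u x' n)) [(2, 11), (3, 3)] 1

theorem primes23 : ∀ x ∈ [(2, 11), (3, 3)], (x : ℕ × ℕ).1.Prime := by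
  intro x hx
  simp only [List.mem_cons, List.not_mem_nil, or_false] at hx
  rcases hx with rfl | rfl <;> norm_num

theorem chkA : allD tA [(2, 11), (3, 3)] 1 = true := by decide +kernel

theorem chkB : allD tB [(2, 11), (3, 3)] 1 = true := by decide +kernel

/-- the sums over the list of signed degrees -/
theorem list_sums {u : ℤ} {L : List ℤ} (h : ∀ z ∈ L, (5 : ℤ) ∣ z ∨ z = u) :
    ∃ n : ℕ, n ≤ L.length ∧ (5 : ℤ) ∣ L.sum - n * u ∧ (25 : ℤ) ∣ (L.map (· ^ 2)).sum - n * u ^ 2 ∧
      ((∃ z ∈ L, ¬ (5 : ℤ) ∣ z) → 0 < n) := by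
  induction L with
  | nil => exact ⟨0, le_refl _, by simp, by simp, by simp⟩
  | cons z L ih =>
    obtain ⟨n, h1, h2, h3, h4⟩ := ih fun z hz => h z (List.mem_cons_of_mem _ hz)
    rcases h z List.mem_cons_self with h5 | h5
    · refine ⟨n, by rw [List.length_cons]; omega, ?_, ?_, ?_⟩
      · rw [List.sum_cons]
        have : z + L.sum - n * u = z + (L.sum - n * u) := by ring
        rw [this]
        exact dvd_add h5 h2
      · rw [List.map_cons, List.sum_cons]
        have : z ^ 2 + (L.map (· ^ 2)).sum - n * u ^ 2 = z ^ 2 + ((L.map (· ^ 2)).sum - n * u ^ 2) := by ring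
        rw [this]
        refine dvd_add ?_ h3
        have := pow_dvd_pow_of_dvd h5 2
        norm_num at this
        exact this
      · rintro ⟨x, hx, hx5⟩
        rcases List.mem_cons.1 hx with rfl | hx
        · exact absurd h5 hx5
        · exact h4 ⟨x, hx, hx5⟩
    · refine ⟨n + 1, by rw [List.length_cons]; omega, ?_, ?_, fun _ => Nat.succ_pos _⟩
      · rw [List.sum_cons, h5]
        have : u + L.sum - ((n + 1 : ℕ) : ℤ) * u = L.sum - n * u := by push_cast; ring
        rw [this]
        exact h2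
      · rw [List.map_cons, List.sum_cons, h5]
        have : u ^ 2 + (L.map (· ^ 2)).sum - ((n + 1 : ℕ) : ℤ) * u ^ 2 = (L.map (· ^ 2)).sum - n * u ^ 2 := by
          push_cast; ring
        rw [this]
        exact h3

theorem dvd_cop {d : ℕ} (h : d ∣ 17971200) (h5 : ¬ 5 ∣ d) (h13 : ¬ 13 ∣ d) : d ∣ val [(2, 11), (3, 3)] := by
  have e : val [(2, 11), (3, 3)] = 55296 := by decide +kernel
  rw [e]
  have h1 : Nat.Coprime d (5 ^ 2 * 13) :=
    Nat.Coprime.mul_right (Nat.Coprime.pow_right _ ((Nat.Prime.coprime_iff_not_dvd (by norm_num)).2 h5).symm)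
      ((Nat.Prime.coprime_iff_not_dvd (by norm_num)).2 h13).symm
  exact h1.dvd_of_dvd_mul_right (by norm_num; exact h)

theorem mod_of {z : ℤ} {m a : ℤ} (h : z ≡ a [ZMOD m]) (ha : a % m = a) : z % m = a := by
  have : z % m = a % m := h
  rw [this, ha]

/-- **The Tits group.** -/
theorem good_of_facts (h : Hyp S) (F : Facts S) : H687.Good 5 S := by
  classical
  have f13 : Fact (Nat.Prime 13) := ⟨by norm_num⟩
  have f5 : Fact (Nat.Prime 5) := ⟨by norm_num⟩
  have hc := F.card
  by_contra hng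
  obtain ⟨K⟩ := exists_blk 13 (by norm_num) S (by rw [hc]; norm_num) (by rw [hc]; norm_num)
  obtain ⟨he, hC⟩ := e_eq h F K
  have ht : K.t = 2 := by
    have := K.ht
    rw [he] at this
    omega
  have hx6 : K.B.dexc ≡ 6 [ZMOD 13] := by
    have := K.B.dexc_modEq K.hP K.ht
    have h0 : (K.e : ℤ) = 6 := by rw [he]; rfl
    rw [h0] at this
    exact_mod_cast this
  have hx6' : K.B.dexc % 13 = 6 := mod_of hx6 (by norm_num)
  obtain ⟨Θ, hΘ⟩ := K.B.exists_X K.ht
  have hf := K.B.deg_X Θ hΘ
  have hfd : K.B.f ∣ 17971200 := by rw [← hf, ← hc]; exact Blocks.Knorr.charDegree_dvd Θ.2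
  have hxf := K.B.natAbs_dexc
  have hf13 : ¬ 13 ∣ K.B.f := by
    intro hd
    have : (13 : ℤ) ∣ K.B.dexc := by
      rw [← Int.dvd_natAbs, hxf]; exact_mod_cast hd
    omega
  by_cases hall : ∀ ψ ∈ K.B.l, 5 ∣ charDegree (ψ : S → ℂ)
  · -- no nonexceptional character of degree prime to 5
    have h1 := mod_of (exists_mem_of_not_dvd K (p := 5) (by norm_num) hall) (by norm_num)
    have hx5 : K.B.dexc % 5 = 1 := by exact_mod_cast h1
    have hf5 : ¬ 5 ∣ K.B.f := by
      intro hd
      have : (5 : ℤ) ∣ K.B.dexc := by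
        rw [← Int.dvd_natAbs, hxf]; exact_mod_cast hd
      omega
    obtain ⟨y, hy⟩ := exists_prime_orderOf_dvd_card' (G := S) 5 (by rw [hc]; norm_num)
    have hf1 : (Θ : S → ℂ) 1 = (K.B.f : ℂ) := by rw [H687.Irr.one_eq, hf]
    obtain ⟨w, m, hw, hwm⟩ := exists_val F hy (isIrr_isCharacter Θ.2) hf1
    have hw2 := two_mul_sq_le F K ht hy hΘ hw
    have h2 := allD_dvd [(2, 11), (3, 3)] primes23 (by decide +kernel) chkB (dvd_cop hfd hf5 hf13)
    have hw4 : -4 ≤ w ∧ w ≤ 4 := by
      constructor <;> nlinarith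
    generalize K.B.f = f at *
    generalize K.B.dexc = x at *
    rw [tB, Bool.or_eq_true] at h2
    rcases h2 with h2 | h2
    · rw [Bool.not_eq_true', Bool.or_eq_false_iff, Bool.and_eq_false_iff, Bool.and_eq_false_iff] at h2
      obtain ⟨h3, h4⟩ := h2
      rcases Int.natAbs_eq x with h5 | h5 <;> rw [hxf] at h5
      · have e1 : f % 13 = 6 := by omega
        have e2 : f % 5 = 1 := by omega
        rw [e1, e2] at h3
        simp at h3
      · have e1 : (f + 6) % 13 = 0 := by omega
        have e2 : (f + 1) % 5 = 0 := by omega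
        rw [e1, e2] at h4
        simp at h4
    · rw [Bool.not_eq_true', Bool.or_eq_false_iff] at h2
      obtain ⟨h3, h4⟩ := h2
      have e1 : ¬ f % 25 ≤ 4 := by
        intro h5
        rw [Nat.ble_eq_true_of_le h5] at h3
        exact absurd h3 (by simp)
      have e2 : ¬ 21 ≤ f % 25 := by
        intro h5
        rw [Nat.ble_eq_true_of_le h5] at h4
        exact absurd h4 (by simp)
      clear hx6 hx6' hx5 h1 hw2 hw hf hxf hall hfd
      obtain ⟨hw5, hw6⟩ := hw4
      interval_cases w <;> omega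
  · -- a nonexceptional character of degree prime to 5
    push Not at hall
    obtain ⟨α, hα, hα5⟩ := hall
    obtain ⟨d, hd⟩ : ∃ d, charDegree (α : S → ℂ) = d := ⟨_, rfl⟩
    have hαn := K.nt_of_mem_l hα
    have hαi := K.inv_of_mem_l h (by norm_num) hα
    have hdvd : ∀ β : IrrCharacter S, Nt β → ¬ 5 ∣ charDegree (β : S → ℂ) → charDegree (β : S → ℂ) ∣ d := by
      intro β hβ hβ5
      rw [← hd]
      exact dvd_of_not_good h (by norm_num) (by norm_num) hng hαn hβ hα5 hβ5 hαi
    have hu1 : K.B.sd α ≡ 1 [ZMOD 13] := by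
      have := K.B.sd_modEq K.hP (List.mem_cons_of_mem _ hα)
      exact_mod_cast this
    have hua : (K.B.sd α).natAbs = d := by rw [K.B.natAbs_sd (List.mem_cons_of_mem _ hα), hd]
    have hu1' : K.B.sd α % 13 = 1 := mod_of hu1 (by norm_num)
    rw [hd] at hα5
    have hd13 : ¬ 13 ∣ d := by
      intro h1
      have : (13 : ℤ) ∣ K.B.sd α := by
        rw [← Int.dvd_natAbs, hua]; exact_mod_cast h1
      omega
    have hdd : d ∣ 17971200 := by rw [← hd, ← hc]; exact Blocks.Knorr.charDegree_dvd α.2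
    -- the other characters
    have hCP : centralizer ((K.P : Subgroup S) : Set S) = (K.P : Subgroup S) := by
      symm
      apply Subgroup.eq_of_le_of_card_ge (P_le K)
      rw [hC]
      exact K.hP.ge
    have : Finite (IrrCharacter S) := finite_irr
    have := Fintype.ofFinite (IrrCharacter S)
    have hoth : ∀ χ ∈ K.B.others, 5 ∣ charDegree (χ : S → ℂ) := by
      intro χ hχ
      rw [K.B.mem_others] at hχ
      by_contra h5
      have h1 := K.B.dvd_degree K.hM K.hP hCP hχ
      apply hd13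
      refine h1.trans (hdvd χ ?_ h5)
      intro h2
      apply hχ
      rw [K.B.mem_block]
      left
      have : χ = K.B.one := Subtype.ext (by rw [h2, K.B.coe_one])
      rw [this]
      exact List.mem_cons_self
    have hsq := K.B.sum_sq
    have ht' : (K.t : ℤ) = 2 := by rw [ht]; rfl
    rw [hc, ht'] at hsq
    have ho : (25 : ℤ) ∣ ∑ χ ∈ K.B.others, (charDegree (χ : S → ℂ) : ℤ) ^ 2 := by
      apply Finset.dvd_sum
      intro χ hχ
      have h1 : (5 : ℤ) ∣ (charDegree (χ : S → ℂ) : ℤ) := by exact_mod_cast hoth χ hχ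
      have := pow_dvd_pow_of_dvd h1 2
      norm_num at this
      exact this
    have hL : ∀ z ∈ K.B.degs, (5 : ℤ) ∣ z ∨ z = K.B.sd α := by
      intro z hz
      obtain ⟨χ, hχ, rfl⟩ := List.mem_map.1 hz
      have e1 : (K.B.sd χ) % 13 = 1 := by
        have := K.B.sd_modEq K.hP (List.mem_cons_of_mem _ hχ)
        exact mod_of (m := 13) (by exact_mod_cast this) (by norm_num)
      have e2 := K.B.natAbs_sd (List.mem_cons_of_mem _ hχ)
      by_cases h5 : 5 ∣ charDegree (χ : S → ℂ)
      · left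
        rw [← Int.dvd_natAbs, e2]
        exact_mod_cast h5
      · right
        have e3 := eq_of_not_good h (by norm_num) (by norm_num) hng hαn (K.nt_of_mem_l hχ) (by rw [hd]; exact hα5) h5
          hαi (K.inv_of_mem_l h (by norm_num) hχ)
        rw [e3, hd] at e2
        omega
    obtain ⟨n, hn1, hn2, hn3, hn4⟩ := list_sums hL
    have hn5 : n ≤ 5 := by
      have := K.B.length_degs
      omega
    have hn0 : 0 < n := hn4 ⟨K.B.sd α, List.mem_map.2 ⟨α, hα, rfl⟩, fun h5 => hα5 (by
      rw [← Int.dvd_natAbs, hua] at h5; exact_mod_cast h5)⟩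
    have hrel := K.B.dexc_eq K.ht
    -- the two congruences
    have hxsq : (K.B.f : ℤ) ^ 2 = K.B.dexc ^ 2 := by rw [← hxf, Int.natAbs_sq]
    have c25 : (25 : ℤ) ∣ 1 + n * K.B.sd α ^ 2 + 2 * K.B.dexc ^ 2 := by
      obtain ⟨a, ha⟩ := hn3
      obtain ⟨b, hb⟩ := ho
      rw [hb, hxsq] at hsq
      refine ⟨718848 - a - b, ?_⟩
      push_cast at hsq
      linear_combination hsq - ha
    have c5 : (5 : ℤ) ∣ 1 + n * K.B.sd α - K.B.dexc := by
      obtain ⟨a, ha⟩ := hn2
      exact ⟨-a, by linear_combination hrel - ha⟩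
    have hA := allD_dvd [(2, 11), (3, 3)] primes23 (by decide +kernel) chkA (dvd_cop hdd hα5 hd13)
    rw [tA, Bool.or_eq_true] at hA
    rcases hA with hA | hA
    · have h1 := Nat.le_of_ble_eq_true hA
      have h2 := sq_lt_card hαn
      rw [hd, hc] at h2
      omega
    have hu : K.B.sd α = d ∨ K.B.sd α = -d := eq_or_neg_of_natAbs hua
    have hmem : K.B.sd α ∈ [(d : ℤ), -(d : ℤ)] := by
      rcases hu with hu | hu <;> rw [hu] <;> simp
    have hA1 := List.all_eq_true.1 hA _ hmem
    rw [Bool.or_eq_true] at hA1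
    rcases hA1 with hA1 | hA1
    · rw [Bool.not_eq_true', decide_eq_false_iff_not] at hA1
      exact hA1 hu1'
    have hnm : n ∈ [1, 2, 3, 4, 5] := by
      simp only [List.mem_cons, List.not_mem_nil, or_false]
      omega
    have hA2 := List.all_eq_true.1 hA1 _ hnm
    rw [Bool.and_eq_true, Bool.not_eq_true', cA, Bool.and_eq_false_iff, decide_eq_false_iff_not,
      decide_eq_false_iff_not] at hA2
    obtain ⟨hA3, hA4⟩ := hA2
    by_cases hf5 : 5 ∣ K.B.f
    · have h5x : (5 : ℤ) ∣ K.B.dexc := by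
        rw [← Int.dvd_natAbs, hxf]; exact_mod_cast hf5
      obtain ⟨k, hk⟩ := h5x
      rcases hA3 with hA3 | hA3
      · apply hA3
        apply Int.emod_eq_zero_of_dvd
        obtain ⟨a, ha⟩ := c25
        refine ⟨a - 2 * k ^ 2, ?_⟩
        rw [hk] at ha
        linear_combination ha
      · apply hA3
        apply Int.emod_eq_zero_of_dvd
        obtain ⟨a, ha⟩ := c5
        refine ⟨a + k, ?_⟩
        rw [hk] at ha
        linear_combination ha
    · have hfdv : K.B.f ∣ d := by
        rw [← hf]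
        exact hdvd Θ (K.nt_of_mem_X hΘ) (by rw [hf]; exact hf5)
      have hA5 := allD_dvd [(2, 11), (3, 3)] primes23 (by decide +kernel) hA4 (dvd_cop hfd hf5 hf13)
      rw [Bool.or_eq_true] at hA5
      rcases hA5 with hA5 | hA5
      · rw [Nat.mod_eq_zero_of_dvd hfdv] at hA5
        simp at hA5
      have hx : K.B.dexc = K.B.f ∨ K.B.dexc = -K.B.f := eq_or_neg_of_natAbs hxf
      have hmem : K.B.dexc ∈ [(K.B.f : ℤ), -(K.B.f : ℤ)] := by
        rcases hx with hx | hx <;> rw [hx] <;> simp
      have hA6 := List.all_eq_true.1 hA5 _ hmem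
      rw [Bool.or_eq_true] at hA6
      rcases hA6 with hA6 | hA6
      · rw [Bool.not_eq_true', decide_eq_false_iff_not] at hA6
        exact hA6 hx6'
      · rw [Bool.not_eq_true', cA, Bool.and_eq_false_iff, decide_eq_false_iff_not, decide_eq_false_iff_not] at hA6
        rcases hA6 with hA6 | hA6
        · exact hA6 (Int.emod_eq_zero_of_dvd c25)
        · exact hA6 (Int.emod_eq_zero_of_dvd c5)

omit [Finite S] in
/-- **The Tits group, `p = 5`.** -/
theorem good_Tits [IsSimpleGroup S] (h : Lie.IsoTits S) : H687.Good 5 S := by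
  have hS : Hyp S := hyp_tits h
  have := hS.fin
  exact good_of_facts hS (H235.TitsRow.facts h)

end Cfsg.Agent.H34.SporTits
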