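import Cfsg.Agent.H34.SporTool2
import Cfsg.Agent.H635.SporOut1

/-!
# S4834, sporadic rows: the sieve for an invariant character (helper34)

`good_of_invSieve` : `α` is an invariant nontrivial irreducible character of degree `d` prime to `p`; every principal
block for a prime `l` (exactly) dividing the order gives a condition on `d`.
-/

set_option autoImplicit false
set_option linter.unusedSectionVars false

namespace Cfsg.Agent.H34.SporTool

open Cfsg Cfsg.Agent.H635.Spor Cfsg.Agent.Characters.Core Cfsg.Agent.SmallSimple.DegreeData Subgroup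

universe u

section

variable {l : ℕ} [hl : Fact l.Prime] {S : Type u} [Group S] [Finite S] (K : Blk l S)

/-- an invariant character from a block with one exceptional character -/
theorem exists_inv_of_t_one (h : Hyp S) (hl2 : l ≠ 2) (ht : K.t = 1) {p : ℕ} (hp : p.Prime) :
    ∃ α : IrrCharacter S, Nt α ∧ AutInv (α : S → ℂ) ∧ ¬ p ∣ charDegree (α : S → ℂ) := by
  by_cases hall : ∀ ψ ∈ K.B.l, p ∣ charDegree (ψ : S → ℂ)
  · obtain ⟨Θ, hΘ⟩ := K.B.exists_X K.ht
    have h1 := exists_mem_of_not_dvd K hp.one_lt hall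
    refine ⟨Θ, K.nt_of_mem_X hΘ, inv_of_t_one K h hl2 ht hΘ, ?_⟩
    intro h3
    apply not_dvd_of_modEq_one hp.one_lt h1
    rw [← Int.dvd_natAbs, K.B.natAbs_dexc, ← K.B.deg_X Θ hΘ]
    exact_mod_cast h3
  · push Not at hall
    obtain ⟨ψ, hψ, hψp⟩ := hall
    exact ⟨ψ, K.nt_of_mem_l hψ, K.inv_of_mem_l h hl2 hψ, hψp⟩

/-- `K.e ∈ E` from an element of order `l` conjugate to its power `k` -/
theorem mem_of_pow (h : Hyp S) {k : ℕ} (he : orderOf (k : ZMod l) ∣ K.e) {E : List ℕ}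
    (hE : ∀ e ∈ dvs l, k ^ e % l = 1 → e ∈ E) : K.e ∈ E := by
  refine hE _ (mem_dvs (K.one_lt_e h) K.ht hl.out.one_lt) ?_
  rw [orderOf_dvd_iff_pow_eq_one] at he
  have h1 : ((k ^ K.e : ℕ) : ZMod l) = ((1 : ℕ) : ZMod l) := by
    rw [Nat.cast_pow, Nat.cast_one]; exact he
  have h2 := (ZMod.natCast_eq_natCast_iff' _ _ l).1 h1
  rwa [Nat.mod_eq_of_lt hl.out.one_lt] at h2

end

/-- the test for `d` -/
def invT (p : ℕ) (F : List (ℕ × ℕ)) (ls : List (ℕ × List ℕ)) (d : ℕ) : Bool :=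
  Nat.ble d 1 || ls.any fun y => !(Nat.beq (d % y.1) 1) && (!(Nat.beq ((d + 1) % y.1) 0) &&
    ((y.2.all fun e => Nat.beq e (y.1 - 1)) ||
      allD (fun x => !(Nat.beq (d % x) 0) || exB p y.1 d y.2 x) F 1))

theorem beq_false {a b : ℕ} (h : a ≠ b) : Nat.beq a b = false := by
  cases hb : Nat.beq a b
  · rfl
  · exact absurd (Nat.eq_of_beq_eq_true hb) h

theorem exB_of_all {p l d x : ℕ} {E : List ℕ} (hl : 1 < l) (h1 : d % l ≠ 1) (h2 : (d + 1) % l ≠ 0)
    (hE : E.all (fun e => Nat.beq e (l - 1)) = true) : exB p l d E x = true := by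
  rw [exB, Bool.or_eq_true]
  right
  rw [List.all_eq_true]
  intro e he
  have h3 : e = l - 1 := Nat.eq_of_beq_eq_true (List.all_eq_true.1 hE e he)
  subst h3
  by_cases hx : x = d
  · subst hx
    rw [Bool.or_eq_true]
    right
    have h4 : x % l ≠ (l - 1) % l := by
      intro h
      apply h2
      have h5 : (x + 1) % l = (l - 1 + 1) % l := Nat.ModEq.add_right 1 h
      rw [h5, Nat.sub_add_cancel hl.le, Nat.mod_self]
    have h6 : (x + (l - 1)) % l ≠ 0 := by
      intro h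
      apply h1
      have h5 : (x + (l - 1) + 1) % l = (0 + 1) % l := Nat.ModEq.add_right 1 h
      rw [zero_add, Nat.mod_eq_of_lt hl, show x + (l - 1) + 1 = x + l by omega, Nat.add_mod_right] at h5
      exact h5
    rw [beq_false h4, beq_false h6]
    rfl
  · rw [Bool.or_eq_true]
    left
    rw [beq_false hx, Nat.beq_refl]
    rfl

/-- **The sieve.** -/
theorem good_of_invSieve {S : Type u} [Group S] (h : Hyp S) [Finite S] {p : ℕ} (hp : p.Prime) (hp2 : p ≠ 2)
    {α : IrrCharacter S} (hα : Nt α) (hαi : AutInv (α : S → ℂ)) (hαp : ¬ p ∣ charDegree (α : S → ℂ))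
    {N : ℕ} (hN : Nat.card S = N) (F : List (ℕ × ℕ)) (a : ℕ) (hF : val F * p ^ a = N) (hFp : ∀ x ∈ F, x.1.Prime)
    (hFe : exact F (val F) = true) (ls : List (ℕ × List ℕ))
    (hls : ∀ x ∈ ls, x.1.Prime ∧ x.1 ≠ 2 ∧ x.1 ∣ N ∧ ¬ x.1 ^ 2 ∣ N)
    (hes : ∀ x ∈ ls, ∀ [Fact x.1.Prime], ∀ K : Blk x.1 S, K.e ∈ x.2)
    (hc : allD (invT p F ls) F 1 = true) : H687.Good p S := by
  by_contra hng
  obtain ⟨d, hd⟩ : ∃ d, charDegree (α : S → ℂ) = d := ⟨_, rfl⟩
  rw [hd] at hαp
  have hdF : d ∣ val F := by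
    have h1 : d ∣ N := by rw [← hd, ← hN]; exact Blocks.Knorr.charDegree_dvd α.2
    rw [← hF] at h1
    exact ((Nat.Coprime.pow_right a ((Nat.Prime.coprime_iff_not_dvd hp).2 hαp).symm)).dvd_of_dvd_mul_right h1
  have h1 := allD_dvd F hFp hFe hc hdF
  rw [invT, Bool.or_eq_true] at h1
  rcases h1 with h1 | h1
  · have h2 : d ≤ 1 := Nat.le_of_ble_eq_true h1
    have h3 := h.deg_ne_one hα
    have h4 := deg_ne_zero α
    rw [hd] at h3 h4
    omega
  · obtain ⟨y, hy, h2⟩ := List.any_eq_true.1 h1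
    obtain ⟨hl, hl2, hlN, hlN2⟩ := hls y hy
    have : Fact y.1.Prime := ⟨hl⟩
    obtain ⟨K⟩ := exists_blk y.1 hl2 S (hN ▸ hlN) (hN ▸ hlN2)
    rw [Bool.and_eq_true, Bool.and_eq_true, Bool.or_eq_true] at h2
    obtain ⟨h3, h4, h5⟩ := h2
    have h3' : d % y.1 ≠ 1 := by
      intro h6; rw [h6] at h3; simp at h3
    have h4' : (d + 1) % y.1 ≠ 0 := by
      intro h6; rw [h6] at h4; simp at h4
    have e1 : ∀ {m a b : ℕ}, (a : ℤ) ≡ b [ZMOD m] → a % m = b % m := fun h => (Int.natCast_modEq_iff.1 h)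
    rcases of_inv K h hl2 hp hp2 hng hα hαi (by rw [hd]; exact hαp) with h6 | h6 | ⟨x, hx⟩
    · rw [hd] at h6
      apply h3'
      have := e1 (m := y.1) (a := d) (b := 1) (by simpa using h6)
      rwa [Nat.mod_eq_of_lt hl.one_lt] at this
    · rw [hd] at h6
      apply h4'
      have h7 : ((d + 1 : ℕ) : ℤ) ≡ ((0 : ℕ) : ℤ) [ZMOD y.1] := by
        have := h6.add_right (1 : ℤ)
        simpa using this
      have := e1 h7
      simpa using this
    · rw [hd] at hx
      refine exB_sound hp.one_lt (hes y hy K) ?_ hx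
      rcases h5 with h5 | h5
      · exact exB_of_all hl.one_lt h3' h4' h5
      · have h6 := allD_dvd F hFp hFe h5 (hx.1.trans hdF)
        rw [Bool.or_eq_true] at h6
        rcases h6 with h6 | h6
        · rw [Nat.mod_eq_zero_of_dvd hx.1] at h6
          simp at h6
        · exact h6

end Cfsg.Agent.H34.SporTool
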